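import Cfsg.Agent.H934.Two.RootDZ
import Cfsg.Agent.H92.ExcOrd
import Cfsg.Agent.H129.CycRow
import Cfsg.Agent.S0242

/-!
# Characters of defect zero from cyclic tori in Chevalley groups

`hasDZ_of_torus` : `T` is cyclic of order prime to the characteristic and contains the centralizers of its elements
of order `r`, where `r` does not divide `2 q (q² - 1)`.
-/

set_option autoImplicit false

namespace Cfsg.Agent.H934.Two.RootDZ

open Cfsg.Lie Cfsg.Agent.ChevalleyStructure Cfsg.Agent.ChevalleyStructure.Elts Cfsg.Agent.H86.Par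
  Cfsg.Agent.H86.Lev

universe u

theorem not_dvd_card_SL2 {F : Type u} [Field F] [Fintype F] {q r : ℕ} (hq : Fintype.card F = q) (hr : r.Prime)
    (h0 : ¬ r ∣ q) (h1 : ¬ r ∣ q - 1) (h2 : ¬ r ∣ q + 1) : ¬ r ∣ Nat.card (Matrix.SpecialLinearGroup (Fin 2) F) := by
  intro h
  have hq2 : 2 ≤ q := by rw [← hq]; exact Fintype.one_lt_card
  have h3 := Cfsg.Agent.S0242.result hq 2 (by norm_num)
  rw [Fin.prod_univ_two] at h3
  have h4 : r ∣ (q - 1) * Nat.card (Matrix.SpecialLinearGroup (Fin 2) F) := h.mul_left _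
  rw [h3] at h4
  have e1 : q ^ 2 - q ^ ((0 : Fin 2) : ℕ) = (q + 1) * (q - 1) := by
    have := Nat.sq_sub_sq q 1
    simpa using this
  have e2 : q ^ 2 - q ^ ((1 : Fin 2) : ℕ) = q * (q - 1) := by
    show q ^ 2 - q ^ 1 = _
    rw [pow_one, pow_two, Nat.mul_sub, mul_one]
  rw [e1, e2] at h4
  rcases (Nat.Prime.dvd_mul hr).1 h4 with h5 | h5 <;> rcases (Nat.Prime.dvd_mul hr).1 h5 with h6 | h6
  · exact h2 h6
  · exact h1 h6
  · exact h0 h6
  · exact h1 h6

variable {D : ChevalleyDatum} {F : Type u} [Field F]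

theorem hasDZ_of_torus (hD : InList D) [Fintype F] (p : ℕ) [hp : Fact p.Prime] [CharP F p] {q : ℕ}
    (hq : Fintype.card F = q) {T : Subgroup ↥(D.group F)} (hT : IsCyclic T) {r : ℕ} [hr : Fact r.Prime]
    (hrT : r ∣ Nat.card T) (hcent : ∀ y ∈ T, orderOf y = r → Subgroup.centralizer {y} ≤ T)
    (hpT : ¬ p ∣ Nat.card T) (hr2 : r ≠ 2) (h0 : ¬ r ∣ q) (h1 : ¬ r ∣ q - 1) (h2 : ¬ r ∣ q + 1) :
    Cfsg.Agent.H665.NoPQ.HasDZ r ↥(D.group F) := by
  have hfin : Finite (GL D.Idx F) := inferInstance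
  let z : ↥(D.group F) := ⟨xG hD (top D) 1, xG_mem_group hD _ _⟩
  have hzp : orderOf z = p := by
    rw [← Subgroup.orderOf_coe]
    exact Cfsg.Agent.H92.ExcOrd.orderOf_xG hD (top_lt hD) p
  have hpq : p ∣ q := by
    rw [← CharP.cast_eq_zero_iff F p, ← hq]
    exact FiniteField.cast_card_eq_zero F
  refine hasDZ hD p (r := r) ?_ (not_dvd_card_SL2 hq hr.out h0 h1 h2) z rfl ?_
  · intro h
    rcases (Nat.Prime.dvd_mul hr.out).1 h with h | h
    · exact hr2 ((Nat.prime_dvd_prime_iff_eq hr.out Nat.prime_two).1 h)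
    · exact h0 (h.trans hpq)
  · intro h
    obtain ⟨⟨y, hyz⟩, hy⟩ := exists_prime_orderOf_dvd_card' (G := ↥(Subgroup.centralizer ({z} : Set ↥(D.group F)))) r h
    rw [Subgroup.orderOf_mk] at hy
    obtain ⟨g, -, hg⟩ := Cfsg.Agent.H129.CycT.centralizer_conj hT hr.out hrT hcent hy
    have h3 : z ∈ Subgroup.centralizer ({y} : Set ↥(D.group F)) := by
      rw [Subgroup.mem_centralizer_singleton_iff] at hyz ⊢
      exact hyz.symm
    have h4 := (hg z).1 h3
    have h5 : orderOf (g * z * g⁻¹) = p := by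
      rw [← hzp]
      exact (MulAut.conj g).orderOf_eq z
    apply hpT
    rw [← h5]
    have := orderOf_dvd_natCard (⟨g * z * g⁻¹, h4⟩ : T)
    rwa [Subgroup.orderOf_mk] at this

end Cfsg.Agent.H934.Two.RootDZ
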