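import Cfsg.Agent.H504.TwoRows
import Cfsg.Agent.H504.ZerosLie
import Cfsg.Agent.H129.CycRow

/-!
# Tools for the rows of S4897 (two characters with three zeros)

* `two_of_exact_orders` : a cyclic torus and `e + 2` orders outside.
* `two_of_st_dz` : the Steinberg character and a character of defect zero for another prime.
* `row2_of_three` : `Row2` for Lie type groups from three orders.
-/

set_option autoImplicit false

namespace Cfsg.Agent.H934.Two

open Cfsg Cfsg.Agent.H504.ZeroTI Cfsg.Agent.H504.Zeros Cfsg.Agent.H504.TwoZ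
open Cfsg.Agent.H129.CycT

universe u

variable {G : Type u} [Group G]

/-- elements of orders not dividing `a` are not conjugate into `A` -/
theorem not_conj_of_order {A : Subgroup G} {a : ℕ} (hc : Nat.card A = a) {g b : G} (hb : b ∈ A) (hb1 : b ≠ 1)
    (h : orderOf g = 1 ∨ ¬ orderOf g ∣ a) : ¬ IsConj g b := by
  intro hcj
  have h4 : orderOf g = orderOf b := by
    obtain ⟨c, rfl⟩ := isConj_iff.1 hcj
    exact ((MulAut.conj c).orderOf_eq g).symm
  have h5 : orderOf b ∣ a := by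
    have := orderOf_dvd_natCard (⟨b, hb⟩ : A)
    rwa [← Subgroup.orderOf_coe, hc] at this
  rcases h with h6 | h6
  · rw [h4] at h6
    exact hb1 (orderOf_eq_one_iff.1 h6)
  · exact h6 (h4 ▸ h5)

/-- **`Two G` from a cyclic torus** of order `a = e m + 1`, `m ≥ 3`, and `e + 2` orders outside -/
theorem two_of_exact_orders [Finite G] {a e : ℕ} (h : CycExact G a) (hea : e < a) (h1 : 1 < a)
    {N : ℤ} (hN : (Nat.card G : ℤ) = a * N) (hmod : ((N : ℤ) : ZMod a) = e)
    (s : Finset ℕ) (hs : ∀ n ∈ s, ∃ g : G, orderOf g = n)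
    (hsa : ∀ n ∈ s, n = 1 ∨ ¬ n ∣ a)
    (hm : ∀ m, a = e * m + 1 → 3 ≤ m) (hse : e + 2 ≤ s.card) : Two G := by
  obtain ⟨T, hT, hc, hz⟩ := h
  have hA := cc_of_cyclic hT hz
  have he := eIdx_of_int hA hc hea h1 hN hmod
  obtain ⟨m, hem⟩ := exists_m hA
  rw [hc, he] at hem
  have h2 := hm m hem
  obtain ⟨t, ht, htc, hto⟩ := exists_of_orders (G := G) s hs
  have hk := m_add_card_le hA (m := m) (by rw [he, hc]; exact hem) t ht fun g hg b hb hb1 =>
    not_conj_of_order hc hb hb1 (hsa _ (hto g hg))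
  exact two_of_ti hA he h2 (by rw [hc]; exact hem) hk (by omega)

/-- **The Steinberg character and a character of `r`-defect zero.** -/
theorem two_of_st_dz [Finite G] {p r : ℕ} [hp : Fact p.Prime] [hr : Fact r.Prime] (hpr : r ≠ p)
    (hst : Cfsg.Agent.H167.StChar.HasSt p G) (hdz : Cfsg.Agent.H665.NoPQ.HasDZ r G) (hrG : r ∣ Nat.card G)
    (s t : Finset G) (hs : NonConj s) (ht : NonConj t) (hps : ∀ g ∈ s, p ∣ orderOf g)
    (hrt : ∀ g ∈ t, r ∣ orderOf g) (hs3 : 3 ≤ s.card) (ht3 : 3 ≤ t.card) : Two G := by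
  obtain ⟨χ, hχ, h1, -⟩ := hst
  have h2 := charDegree_cast_irr (⟨χ, hχ⟩ : IrrCharacter G)
  have h3 : charDegree (((⟨χ, hχ⟩ : IrrCharacter G)) : G → ℂ) =
      p ^ (Nat.card G).factorization p := by
    have h4 : (charDegree (((⟨χ, hχ⟩ : IrrCharacter G)) : G → ℂ) : ℂ) =
      ((p ^ (Nat.card G).factorization p : ℕ) : ℂ) := by
      rw [h2]
      exact h1
    exact_mod_cast h4
  obtain ⟨θ, hθ⟩ := hdz
  refine two_of_zeros (χ := ⟨χ, hχ⟩) (ψ := θ) ?_ s t hs ht (fun g hg => ?_) (fun g hg => ?_) hs3 ht3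
  · rintro rfl
    rw [h3, hp.out.factorization_pow, Finsupp.single_apply, if_neg (Ne.symm hpr)] at hθ
    exact (hr.out.factorization_pos_of_dvd Nat.card_pos.ne' hrG).ne hθ
  · refine Cfsg.Agent.H713.irr_zero_of_singular ?_ (hps g hg)
    rw [h3, hp.out.factorization_pow, Finsupp.single_eq_same]
  · exact Cfsg.Agent.H713.irr_zero_of_singular hθ (hrt g hg)

/-- `Row2` from three orders -/
theorem row2_of_three {p : ℕ} (hp : p.Prime) {S : Type u} [Group S] [Finite S] [IsSimpleGroup S]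
    (hna : ¬ IsMulCommutative S) (h : IsLieTypeChar p S) {a b c : ℕ} (ha : p ∣ a) (hb : p ∣ b) (hc : p ∣ c)
    (hab : a ≠ b) (hac : a ≠ c) (hbc : b ≠ c) (Ha : ∃ g : S, orderOf g = a) (Hb : ∃ g : S, orderOf g = b)
    (Hc : ∃ g : S, orderOf g = c) : Row2 S := by
  refine row2_of_lie_orders hp hna h {a, b, c} ?_ ?_
  · simp only [Finset.mem_insert, Finset.mem_singleton, forall_eq_or_imp, forall_eq]
    exact ⟨⟨ha, Ha⟩, ⟨hb, Hb⟩, ⟨hc, Hc⟩⟩
  · rw [Finset.card_insert_of_notMem, Finset.card_pair hbc]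
    simp only [Finset.mem_insert, Finset.mem_singleton, not_or]
    exact ⟨hab, hac⟩

/-- three orders give three non-conjugate elements -/
theorem exists_three_orders [Finite G] {p a b c : ℕ} (ha : p ∣ a) (hb : p ∣ b) (hc : p ∣ c)
    (hab : a ≠ b) (hac : a ≠ c) (hbc : b ≠ c) (Ha : ∃ g : G, orderOf g = a) (Hb : ∃ g : G, orderOf g = b)
    (Hc : ∃ g : G, orderOf g = c) : ∃ s : Finset G, NonConj s ∧ 3 ≤ s.card ∧ ∀ g ∈ s, p ∣ orderOf g := by
  have h3 : ({a, b, c} : Finset ℕ).card = 3 := by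
    rw [Finset.card_insert_of_notMem, Finset.card_pair hbc]
    simp only [Finset.mem_insert, Finset.mem_singleton, not_or]
    exact ⟨hab, hac⟩
  obtain ⟨s, hs, hsc, hso⟩ := exists_of_orders (G := G) {a, b, c} (by
    simp only [Finset.mem_insert, Finset.mem_singleton, forall_eq_or_imp, forall_eq]
    exact ⟨Ha, Hb, Hc⟩)
  refine ⟨s, hs, by omega, fun g hg => ?_⟩
  have h := hso g hg
  simp only [Finset.mem_insert, Finset.mem_singleton] at h
  rcases h with h | h | h <;> rw [h] <;> assumption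

end Cfsg.Agent.H934.Two
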