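import Cfsg.Agent.H72.AdjPSUW
import Cfsg.Agent.H279.ZerosPSU2
import Cfsg.Agent.H934.Two.Tool

/-!
# `PSU_n(q)`, `n ≥ 4` : three orders divisible by `p`, `Row2` of S4897
-/

set_option autoImplicit false
set_option linter.unusedSectionVars false

open Cfsg

namespace Cfsg.Agent.H934.Two.PSU

open Cfsg.Agent.H72.AdjPSU Cfsg.Agent.H504.Zeros Cfsg.Agent.H504.TwoZ
open Cfsg.Agent.ClassicalGeometry.GUBasic Cfsg.Agent.LieClassical Cfsg.Agent.H674.SUTools
  Cfsg.Agent.H674.SUBlock Cfsg.Agent.H674.Explicit Cfsg.Agent.H674.ExplicitCases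
  Cfsg.Agent.H674.TwelvePSU Cfsg.Agent.H279.ZerosPSU2

variable {F : Type} [Field F] [Fintype F] {q n : ℕ}

theorem finite_psu (n q : ℕ) : Finite (PSU n F q) := by
  have h : Finite (SU n F q) := Subtype.finite
  exact inferInstance

theorem simple (hF : Fintype.card F = q ^ 2) (hn : 4 ≤ n) : IsSimpleGroup (PSU n F q) :=
  S0283.result hF n (by omega) (by omega)

/-- a simple group with elements of different orders `≠ 1` is not commutative -/
theorem not_comm_of_orders {S : Type*} [Group S] [Finite S] [IsSimpleGroup S] {g h : S} (hg : g ≠ 1)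
    (hh : h ≠ 1) (hgh : orderOf g ≠ orderOf h) : ¬ IsMulCommutative S := by
  intro hc
  let _ : CommGroup S := { (inferInstance : Group S) with mul_comm := hc.is_comm.comm }
  have hp : (Nat.card S).Prime := IsSimpleGroup.prime_card
  have h1 : ∀ x : S, x ≠ 1 → orderOf x = Nat.card S := fun x hx =>
    ((Nat.dvd_prime hp).1 (orderOf_dvd_natCard x)).resolve_left fun h => hx (orderOf_eq_one_iff.1 h)
  exact hgh ((h1 g hg).trans (h1 h hh).symm)

/-- the characteristic -/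
theorem exists_char (hF : Fintype.card F = q ^ 2) : ∃ p : ℕ, p.Prime ∧ CharP F p ∧ (∃ j, q = p ^ j ∧ 1 ≤ j) := by
  obtain ⟨p, hp⟩ := CharP.exists F
  have : Fact p.Prime := ⟨CharP.char_is_prime F p⟩
  exact ⟨p, this.out, hp, Cfsg.Agent.H127.UnitRoots.exists_eq_pow hF p⟩

/-- **three different orders divisible by `p`** -/
def ThreeOrd (p : ℕ) (S : Type*) [Group S] : Prop :=
  ∃ a b c : ℕ, p ∣ a ∧ p ∣ b ∧ p ∣ c ∧ a ≠ b ∧ a ≠ c ∧ b ≠ c ∧ (∃ g : S, orderOf g = a) ∧
    (∃ g : S, orderOf g = b) ∧ ∃ g : S, orderOf g = c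

theorem ThreeOrd.exists_set {p : ℕ} {S : Type*} [Group S] [Finite S] (h : ThreeOrd p S) :
    ∃ s : Finset S, NonConj s ∧ 3 ≤ s.card ∧ ∀ g ∈ s, p ∣ orderOf g := by
  obtain ⟨a, b, c, ha, hb, hc, hab, hac, hbc, Ha, Hb, Hc⟩ := h
  exact exists_three_orders ha hb hc hab hac hbc Ha Hb Hc

theorem ThreeOrd.not_comm {p : ℕ} {S : Type*} [Group S] [Finite S] [IsSimpleGroup S] (hp : p.Prime)
    (h : ThreeOrd p S) : ¬ IsMulCommutative S := by
  obtain ⟨a, b, c, ha, hb, hc, hab, hac, hbc, ⟨x, hx⟩, ⟨y, hy⟩, -⟩ := h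
  have hne : ∀ {m : ℕ} {z : S}, orderOf z = m → p ∣ m → z ≠ 1 := by
    rintro m z hz hm rfl
    rw [orderOf_one] at hz
    rw [← hz] at hm
    exact hp.one_lt.ne' (Nat.dvd_one.1 hm)
  exact not_comm_of_orders (hne hx ha) (hne hy hb) (by rw [hx, hy]; exact hab)

theorem ThreeOrd.of_equiv {p : ℕ} {S T : Type*} [Group S] [Group T] (e : S ≃* T) (h : ThreeOrd p T) :
    ThreeOrd p S := by
  obtain ⟨a, b, c, ha, hb, hc, hab, hac, hbc, ⟨x, hx⟩, ⟨y, hy⟩, ⟨z, hz⟩⟩ := h
  exact ⟨a, b, c, ha, hb, hc, hab, hac, hbc, ⟨e.symm x, by rw [MulEquiv.orderOf_eq, hx]⟩,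
    ⟨e.symm y, by rw [MulEquiv.orderOf_eq, hy]⟩, ⟨e.symm z, by rw [MulEquiv.orderOf_eq, hz]⟩⟩

theorem row2 {p : ℕ} (hp : p.Prime) {S : Type*} [Group S] [Finite S] [IsSimpleGroup S]
    (hl : IsLieTypeChar p S) (h : ThreeOrd p S) : Row2 S := by
  have hna := h.not_comm hp
  obtain ⟨a, b, c, ha, hb, hc, hab, hac, hbc, Ha, Hb, Hc⟩ := h
  exact row2_of_three hp hna hl ha hb hc hab hac hbc Ha Hb Hc

/-- `q ≥ 3` -/
theorem threeOrd_of_three_le (hF : Fintype.card F = q ^ 2) (hn : 4 ≤ n) (hq : 3 ≤ q) {p : ℕ} (hp : p.Prime)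
    [CharP F p] (hpq : ∃ j, q = p ^ j ∧ 1 ≤ j) : ThreeOrd p (PSU n F q) := by
  have : Fact p.Prime := ⟨hp⟩
  obtain ⟨j, hj, hj1⟩ := hpq
  have hco : Nat.Coprime p (q + 1) := by
    rw [Nat.Prime.coprime_iff_not_dvd hp]
    intro h
    have h1 : p ∣ q := by rw [hj]; exact dvd_pow_self _ (by omega)
    exact hp.one_lt.ne' (Nat.dvd_one.1 ((Nat.dvd_add_right h1).1 h))
  have H1 := exists_order_of_blocks hF (n := n) (by omega) (hasBlock_char hF p) (hasBlock_two hF (d := q + 1) dvd_rfl)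
    (by norm_num) (by norm_num) (by omega) hco
  have hp2 := hp.two_le
  rcases Nat.even_or_odd q with he | ho
  · have h2 : Nat.Coprime (q - 1) (q + 1) := by
      have h3 : q + 1 = (q - 1) + 2 := by omega
      rw [h3, Nat.coprime_self_add_right, Nat.coprime_comm, Nat.Prime.coprime_iff_not_dvd Nat.prime_two]
      obtain ⟨k, hk⟩ := he
      omega
    have h4 : q - 1 ∣ q ^ (2 * 1) - 1 := by
      have := Nat.sub_dvd_pow_sub_pow q 1 (2 * 1)
      rwa [one_pow] at this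
    have h5 : Nat.Coprime p (q - 1) := by
      rw [Nat.Prime.coprime_iff_not_dvd hp]
      intro h
      have h1 : p ∣ q := by rw [hj]; exact dvd_pow_self _ (by omega)
      have h6 := Nat.dvd_sub h1 h
      rw [show q - (q - 1) = 1 by omega] at h6
      exact hp.one_lt.ne' (Nat.dvd_one.1 h6)
    have H2 := exists_order_of_blocks hF (n := n) (by omega) (hasBlock_char hF p)
      (hasBlock_even hF (j := 1) (d := q - 1) (by norm_num) h4 h2) (by norm_num) (by norm_num) (by omega) h5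
    refine ⟨p, p * (q + 1), p * (q - 1), dvd_rfl, dvd_mul_right _ _, dvd_mul_right _ _, ?_, ?_, ?_,
      H1 _ (dvd_mul_right _ _), H1 _ dvd_rfl, H2 _ dvd_rfl⟩
    · intro h
      have : p * 1 = p * (q + 1) := by rwa [mul_one]
      have := Nat.eq_of_mul_eq_mul_left hp.pos this
      omega
    · intro h
      have : p * 1 = p * (q - 1) := by rwa [mul_one]
      have := Nat.eq_of_mul_eq_mul_left hp.pos this
      obtain ⟨k, hk⟩ := he
      omega
    · intro h
      have := Nat.eq_of_mul_eq_mul_left hp.pos h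
      omega
  · have h2 : 2 ∣ q + 1 := by
      obtain ⟨k, hk⟩ := ho
      omega
    refine ⟨p, p * 2, p * (q + 1), dvd_rfl, dvd_mul_right _ _, dvd_mul_right _ _, ?_, ?_, ?_,
      H1 _ (dvd_mul_right _ _), H1 _ (Nat.mul_dvd_mul_left _ h2), H1 _ dvd_rfl⟩
    · omega
    · intro h
      have : p * 1 = p * (q + 1) := by rwa [mul_one]
      have := Nat.eq_of_mul_eq_mul_left hp.pos this
      omega
    · intro h
      have := Nat.eq_of_mul_eq_mul_left hp.pos h
      omega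

/-- `q = 2`, `n ≥ 5` -/
theorem threeOrd_two (hF : Fintype.card F = 2 ^ 2) (hn : 5 ≤ n) : ThreeOrd 2 (PSU n F 2) := by
  refine ThreeOrd.of_equiv (FieldTransfer.psuCongr n 2 (FiniteField.ringEquivOfCardEq (hF.trans h4.symm))) ?_
  obtain ⟨k, rfl⟩ := Nat.exists_eq_add_of_le hn
  choose x hx using fun i => exists_of_good h4 (good_M5 i)
  have ho : ∀ i, orderOf (x i) = ord5 i := fun i => by
    rw [← orderOf_cm, hx, ord_of (ord5_pos i).1 (ordIs_M5' i)]
  have h3 : ∀ i, orderOf (pr (ext h4 k (x i))) = ord5 i := fun i => by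
    rw [← ho i]
    exact orderOf_injective _ (pr_ext_inj k) (x i)
  exact ⟨2, 4, 6, by norm_num, by norm_num, by norm_num, by norm_num, by norm_num, by norm_num,
    ⟨_, h3 0⟩, ⟨_, h3 2⟩, ⟨_, h3 4⟩⟩

theorem threeOrd (hF : Fintype.card F = q ^ 2) (hn : 4 ≤ n) (h : n = 4 → q ≠ 2) {p : ℕ} (hp : p.Prime)
    [hc : CharP F p] (hpq : ∃ j, q = p ^ j ∧ 1 ≤ j) : ThreeOrd p (PSU n F q) := by
  have h2 := two_le hF
  rcases Nat.eq_or_lt_of_le h2 with rfl | h3
  · obtain ⟨j, hj, hj1⟩ := hpq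
    have h1 : p ∣ 2 := by rw [hj]; exact dvd_pow_self _ (by omega)
    obtain rfl : p = 2 := (Nat.prime_dvd_prime_iff_eq hp Nat.prime_two).1 h1
    exact threeOrd_two hF (by
      rcases Nat.eq_or_lt_of_le hn with h4 | h4
      · exact absurd rfl (h h4.symm)
      · exact h4)
  · exact threeOrd_of_three_le hF hn h3 hp hpq

theorem row2_psu (hF : Fintype.card F = q ^ 2) (hn : 4 ≤ n) (h : n = 4 → q ≠ 2) : Row2 (PSU n F q) := by
  have := finite_psu (F := F) n q
  have := simple hF hn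
  obtain ⟨p, hp, hc, hpq⟩ := exists_char hF
  exact row2 hp (Cfsg.Agent.H279.ZerosPSU.isLie hF hn) (threeOrd hF hn h hp hpq)

end Cfsg.Agent.H934.Two.PSU
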