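import Cfsg.Agent.H72.AdjPSUW
import Cfsg.Agent.H149.NegPrime
import Cfsg.Agent.H113.PSU.Facts
import Cfsg.Agent.H934.Two.PSUOrd

/-!
# `PSU_n(q)`, `n ≥ 4` : the rank 3 character of degree `q³ (q^(n-1) ± 1) (q^(n-2) ∓ 1) / ((q² - 1) (q + 1))`

It has `r`-defect zero for the primes `r` with `orderOf (-q : ZMod r) = n - 1` or `n - 2` (`n ≥ 5`).
-/

set_option autoImplicit false
set_option linter.unusedSectionVars false

open Cfsg

namespace Cfsg.Agent.H934.Two.PSU

open Cfsg.Agent.H72.AdjPSU Cfsg.Agent.H504.Zeros Cfsg.Agent.H504.TwoZ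
open Cfsg.Agent.ClassicalGeometry.GUBasic Cfsg.Agent.H113.PSU.Levi Cfsg.Agent.H113.PSU.Facts

variable {F : Type} [Field F] [Fintype F] {q n : ℕ}

/-- `r ∣ q ^ i - (-1) ^ i` iff `nu q r ∣ i` -/
theorem dvd_uu_iff (hq : 1 ≤ q) {r i : ℕ} : r ∣ uu q i ↔ nu q r ∣ i := by
  rw [nu, orderOf_dvd_iff_pow_eq_one]
  have h1 : ((uu q i : ℕ) : ZMod r) = (q : ZMod r) ^ i - (-1) ^ i := by
    have := congrArg (Int.cast : ℤ → ZMod r) (uu_cast hq i)
    push_cast at this
    exact this
  have h2 : (-1 : ZMod r) ^ i * (-1) ^ i = 1 := by rw [← mul_pow]; simp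
  rw [← ZMod.natCast_eq_zero_iff, h1, neg_pow (q : ZMod r) i, sub_eq_zero]
  constructor
  · intro h
    rw [h, h2]
  · intro h
    calc (q : ZMod r) ^ i = ((-1) ^ i * (-1) ^ i) * (q : ZMod r) ^ i := by rw [h2, one_mul]
      _ = (-1) ^ i * ((-1) ^ i * (q : ZMod r) ^ i) := by ring
      _ = (-1) ^ i := by rw [h, mul_one]

theorem uu_ne_zero (hq : 2 ≤ q) {i : ℕ} (hi : 1 ≤ i) : uu q i ≠ 0 := by
  unfold uu
  split_ifs
  · have : 1 < q ^ i := Nat.one_lt_pow (by omega) (by omega)
    omega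
  · omega

theorem fact_uu (hq : 1 ≤ q) {r i : ℕ} (h : ¬ nu q r ∣ i) : (uu q i).factorization r = 0 :=
  Nat.factorization_eq_zero_of_not_dvd fun h1 => h ((dvd_uu_iff hq).1 h1)

/-- the `r`-part of the order of `PSU_n(q)` -/
theorem fact_card (hF : Fintype.card F = q ^ 2) (hn : 2 ≤ n) {r : ℕ} (hr : r.Prime) (h0 : ¬ r ∣ q)
    (h1 : ¬ r ∣ q + 1) :
    (Nat.card (PSU n F q)).factorization r = ∑ i ∈ Finset.range n, (uu q (i + 1)).factorization r := by
  have hq := two_le hF
  have hfin := finite_psu (F := F) n q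
  have h := S0280.result hF n hn
  have e1 : (∏ i ∈ Finset.range n, (if Even i then q ^ (i + 1) + 1 else q ^ (i + 1) - 1)) =
      ∏ i ∈ Finset.range n, uu q (i + 1) := by
    refine Finset.prod_congr rfl fun i _ => ?_
    unfold uu
    by_cases he : Even i
    · rw [if_pos he, if_neg (by rw [Nat.even_add_one, not_not]; exact he)]
    · rw [if_neg he, if_pos (by rw [Nat.even_add_one]; exact he)]
  rw [e1] at h
  have h2 : (Nat.gcd n (q + 1) * ((q + 1) * Nat.card (PSU n F q))).factorization r =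
      (q ^ (n * (n - 1) / 2) * ∏ i ∈ Finset.range n, uu q (i + 1)).factorization r := by rw [h]
  have hc0 : Nat.card (PSU n F q) ≠ 0 := Nat.card_pos.ne'
  have hg0 : Nat.gcd n (q + 1) ≠ 0 := Nat.gcd_ne_zero_right (by omega)
  have hP : ∀ i ∈ Finset.range n, uu q (i + 1) ≠ 0 := fun i _ => uu_ne_zero hq (by omega)
  have hg : (Nat.gcd n (q + 1)).factorization r = 0 :=
    Nat.factorization_eq_zero_of_not_dvd fun h3 => h1 (h3.trans (Nat.gcd_dvd_right _ _))
  have hq1 : (q + 1).factorization r = 0 := Nat.factorization_eq_zero_of_not_dvd h1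
  have hqq : (q ^ (n * (n - 1) / 2)).factorization r = 0 :=
    Nat.factorization_eq_zero_of_not_dvd fun h3 => h0 (hr.dvd_of_dvd_pow h3)
  rw [Nat.factorization_mul hg0 (Nat.mul_ne_zero (by omega) hc0), Nat.factorization_mul (by omega) hc0,
    Nat.factorization_mul (pow_ne_zero _ (by omega)) (Finset.prod_ne_zero_iff.2 hP),
    Nat.factorization_prod hP] at h2
  simp only [Finsupp.add_apply, hg, hq1, hqq, zero_add, Finset.sum_apply'] at h2
  exact h2

/-- the `r`-part for a prime with `nu q r = m`, `2 m > n` -/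
theorem fact_card_of_nu (hF : Fintype.card F = q ^ 2) {r m : ℕ} (hr : r.Prime) (hm : nu q r = m) (h2 : 2 ≤ m)
    (h0 : ¬ r ∣ q) (hmn : m ≤ n) (h2m : n < 2 * m) :
    (Nat.card (PSU n F q)).factorization r = (uu q m).factorization r := by
  have hq := two_le hF
  have h1 : ¬ r ∣ q + 1 := fun h => by
    have := nu_eq_one h
    omega
  rw [fact_card hF (by omega) hr h0 h1, Finset.sum_eq_single (m - 1)]
  · rw [Nat.sub_add_cancel (by omega)]
  · intro i hi hne
    rw [Finset.mem_range] at hi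
    refine fact_uu (by omega) ?_
    rw [hm]
    rintro ⟨c, hc⟩
    rcases c with _ | _ | c
    · omega
    · omega
    · have : m * (c + 1 + 1) = m * c + 2 * m := by ring
      omega
  · intro h
    rw [Finset.mem_range] at h
    omega

theorem not_dvd_q_of_nu {r m : ℕ} (hr : r.Prime) (hm : nu q r = m) (h2 : 2 ≤ m) : ¬ r ∣ q := by
  have : Fact r.Prime := ⟨hr⟩
  intro h
  rw [nu, (ZMod.natCast_eq_zero_iff q r).2 h, neg_zero] at hm
  have h1 : orderOf (0 : ZMod r) = 0 := by
    rw [orderOf_eq_zero_iff']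
    intro k hk
    rw [zero_pow (by omega)]
    exact zero_ne_one
  omega

/-- **the character `exG` has `r`-defect zero** -/
theorem fact_exG (hF : Fintype.card F = q ^ 2) (hn : 4 ≤ n) {φ : IrrCharacter (PSU n F q)}
    (hφ : (q ^ 2 - 1) * (q + 1) * charDegree (φ : PSU n F q → ℂ) = q ^ 3 * uu q (n - 1) * uu q (n - 2))
    {r : ℕ} (hr : r.Prime) (h : nu q r = n - 1 ∨ (5 ≤ n ∧ nu q r = n - 2)) :
    (charDegree (φ : PSU n F q → ℂ)).factorization r = (Nat.card (PSU n F q)).factorization r ∧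
      (charDegree (φ : PSU n F q → ℂ)).factorization r ≠ 0 := by
  have hq := two_le hF
  have h3 : 3 ≤ nu q r := by omega
  have h0 : ¬ r ∣ q := not_dvd_q_of_nu hr rfl (by omega)
  have h1 : ¬ r ∣ q + 1 := fun h => by
    have := nu_eq_one h
    omega
  have h2 : ¬ r ∣ q ^ 2 - 1 := by
    intro h4
    have h5 : uu q 2 = q ^ 2 - 1 := by unfold uu; simp
    rw [← h5, dvd_uu_iff (by omega)] at h4
    have := Nat.le_of_dvd (by norm_num) h4
    omega
  have hpos : 0 < q ^ 2 - 1 := by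
    have : 4 ≤ q ^ 2 := by nlinarith
    omega
  have hD0 : charDegree (φ : PSU n F q → ℂ) ≠ 0 := by
    intro h4
    rw [h4, mul_zero] at hφ
    have := uu_ne_zero hq (i := n - 1) (by omega)
    have := uu_ne_zero hq (i := n - 2) (by omega)
    have : q ^ 3 * uu q (n - 1) * uu q (n - 2) ≠ 0 :=
      Nat.mul_ne_zero (Nat.mul_ne_zero (pow_ne_zero _ (by omega)) ‹_›) ‹_›
    exact this hφ.symm
  have key : ((q ^ 2 - 1) * (q + 1) * charDegree (φ : PSU n F q → ℂ)).factorization r =
      (q ^ 3 * uu q (n - 1) * uu q (n - 2)).factorization r := by rw [hφ]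
  rw [Nat.factorization_mul (Nat.mul_ne_zero hpos.ne' (by omega)) hD0, Nat.factorization_mul hpos.ne' (by omega),
    Nat.factorization_mul (Nat.mul_ne_zero (pow_ne_zero _ (by omega)) (uu_ne_zero hq (by omega)))
      (uu_ne_zero hq (by omega)),
    Nat.factorization_mul (pow_ne_zero _ (by omega)) (uu_ne_zero hq (by omega))] at key
  have e1 : (q ^ 2 - 1).factorization r = 0 := Nat.factorization_eq_zero_of_not_dvd h2
  have e2 : (q + 1).factorization r = 0 := Nat.factorization_eq_zero_of_not_dvd h1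
  have e3 : (q ^ 3).factorization r = 0 :=
    Nat.factorization_eq_zero_of_not_dvd fun h3 => h0 (hr.dvd_of_dvd_pow h3)
  simp only [Finsupp.add_apply, e1, e2, e3, zero_add] at key
  have hne : ∀ m, 1 ≤ m → nu q r = m → (uu q m).factorization r ≠ 0 := by
    intro m hm1 hm
    have h5 : r ∣ uu q m := (dvd_uu_iff (by omega)).2 (by rw [hm])
    have := hr.factorization_pos_of_dvd (uu_ne_zero hq hm1) h5
    omega
  rcases h with h | ⟨h5, h⟩
  · have e4 : (uu q (n - 2)).factorization r = 0 := by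
      refine fact_uu (by omega) ?_
      rw [h]
      intro h6
      have := Nat.le_of_dvd (by omega) h6
      omega
    rw [e4, add_zero] at key
    rw [key]
    exact ⟨(fact_card_of_nu hF hr h (by omega) h0 (by omega) (by omega)).symm, hne _ (by omega) h⟩
  · have e4 : (uu q (n - 1)).factorization r = 0 := by
      refine fact_uu (by omega) ?_
      rw [h]
      rintro ⟨c, hc⟩
      rcases c with _ | _ | c
      · omega
      · omega
      · have : (n - 2) * (c + 1 + 1) = (n - 2) * c + 2 * (n - 2) := by ring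
        omega
    rw [e4, zero_add] at key
    rw [key]
    exact ⟨(fact_card_of_nu hF hr h (by omega) h0 (by omega) (by omega)).symm, hne _ (by omega) h⟩

/-- **Row 1 from a set of elements on which `exG` vanishes** -/
theorem two_of_zeroG (hF : Fintype.card F = q ^ 2) (hn : 4 ≤ n) (hn2 : n = 4 → q ≠ 2)
    {φ : IrrCharacter (PSU n F q)} {r : ℕ} (hr : r.Prime) (hrq : ¬ r ∣ q)
    (h1 : (charDegree (φ : PSU n F q → ℂ)).factorization r ≠ 0)
    (t : Finset (PSU n F q)) (ht : NonConj t) (ht3 : 3 ≤ t.card) (h0 : ∀ g ∈ t, (φ : PSU n F q → ℂ) g = 0) :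
    Two (PSU n F q) := by
  have hfin := finite_psu (F := F) n q
  have hs := simple hF hn
  obtain ⟨p, hp, hc, hpq⟩ := exists_char hF
  have : Fact p.Prime := ⟨hp⟩
  have h3 := threeOrd hF hn hn2 hp hpq
  obtain ⟨s, hs1, hs2, hs3⟩ := h3.exists_set
  obtain ⟨θ, hθ, -⟩ := Cfsg.Agent.H761.LieExt.lie_ext (h3.not_comm hp)
    (Cfsg.Agent.H279.ZerosPSU.isLie hF (p := p) hn)
  have hθ' : (charDegree (θ : PSU n F q → ℂ)).factorization p =
      (Nat.card (PSU n F q)).factorization p := by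
    rw [hθ, Nat.factorization_pow, Finsupp.smul_apply, hp.factorization_self, smul_eq_mul, mul_one]
  have hrp : r ≠ p := by
    rintro rfl
    obtain ⟨j, hj, hj1⟩ := hpq
    exact hrq (by rw [hj]; exact dvd_pow_self _ (by omega))
  refine two_of_zeros (χ := φ) (ψ := θ) ?_ t s ht hs1 h0
    (fun g hg => Cfsg.Agent.H713.irr_zero_of_singular hθ' (hs3 g hg)) ht3 hs2
  rintro rfl
  apply h1
  rw [hθ, Nat.factorization_pow, Finsupp.smul_apply, hp.factorization, Finsupp.single_apply, if_neg hrp.symm,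
    smul_zero]

theorem exists_nu (hF : Fintype.card F = q ^ 2) {i : ℕ} (hi : 3 ≤ i) (h : ¬ (i = 3 ∧ q = 2)) :
    ∃ r : ℕ, r.Prime ∧ nu q r = i := by
  obtain ⟨p, hp, -, j, hj, hj1⟩ := exists_char hF
  obtain ⟨r, hr, h1, -⟩ := Cfsg.Agent.H149.NegPrime.exists_neg_prime hp hj hj1 hi h
  exact ⟨r, hr, h1⟩

/-- **`n ≥ 5`, `(n, q) ≠ (5, 2)`** -/
theorem two_five (hF : Fintype.card F = q ^ 2) (hn : 5 ≤ n) (h : ¬ (n = 5 ∧ q = 2)) : Two (PSU n F q) := by
  have hfin := finite_psu (F := F) n q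
  have hq := two_le hF
  obtain ⟨φ, hφ⟩ := exG (F := F) hF (n := n) (by omega)
  obtain ⟨p, hp, hc, hpq⟩ := exists_char hF
  have : Fact p.Prime := ⟨hp⟩
  obtain ⟨r, hr, hrn⟩ := exists_nu hF (i := n - 1) (by omega) (by omega)
  obtain ⟨s, hs, hsn⟩ := exists_nu hF (i := n - 2) (by omega) (by omega)
  have hrq := not_dvd_q_of_nu hr hrn (by omega)
  have hsq := not_dvd_q_of_nu hs hsn (by omega)
  have hr1 : ¬ r ∣ q + 1 := fun h => by
    have := nu_eq_one h
    omega
  have hs1 : ¬ s ∣ q + 1 := fun h => by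
    have := nu_eq_one h
    omega
  have hpq' : p ∣ q := by
    obtain ⟨j, hj, hj1⟩ := hpq
    rw [hj]
    exact dvd_pow_self _ (by omega)
  have hrs : r ≠ s := by
    rintro rfl
    omega
  have hsp : s ≠ p := by
    rintro rfl
    exact hsq hpq'
  have hrp : r ≠ p := by
    rintro rfl
    exact hrq hpq'
  have w1 : wU q r = n - 1 := by
    unfold wU
    rw [if_neg (by tauto), hrn]
  have w2 : wU q s = n - 2 := by
    unfold wU
    rw [if_neg (by tauto), hsn]
  have w3 : wU q p = 2 := by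
    unfold wU
    rw [if_pos (Or.inl hpq')]
  obtain ⟨z, hz⟩ := adj_of_wU hF (n := n) (by omega) hs hp hsp (by rw [w2, w3]; omega)
  obtain ⟨x, hx⟩ := exists_order_of_block hF (n := n) (by omega) (hasBlock_wU hF hr) (wU_pos hr) (by rw [w1]; omega)
    ((Nat.Prime.coprime_iff_not_dvd hr).2 hr1) r dvd_rfl
  have hy : orderOf (z ^ p) = s := by
    rw [orderOf_pow_of_dvd hp.ne_zero (by rw [hz]; exact dvd_mul_left _ _), hz, Nat.mul_div_cancel _ hp.pos]
  have h3 : ({r, s, s * p} : Finset ℕ).card = 3 := by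
    rw [Finset.card_insert_of_notMem, Finset.card_pair]
    · intro h4
      have : s * 1 = s * p := by rwa [mul_one]
      have := Nat.eq_of_mul_eq_mul_left hs.pos this
      exact hp.one_lt.ne this
    · simp only [Finset.mem_insert, Finset.mem_singleton, not_or]
      refine ⟨hrs, fun h4 => ?_⟩
      have h5 : p ∣ r := by rw [h4]; exact dvd_mul_left _ _
      exact hrp ((Nat.prime_dvd_prime_iff_eq hp hr).1 h5).symm
  obtain ⟨t, ht1, ht2, ht3⟩ := exists_of_orders (G := PSU n F q) {r, s, s * p} (by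
    simp only [Finset.mem_insert, Finset.mem_singleton, forall_eq_or_imp, forall_eq]
    exact ⟨⟨x, hx⟩, ⟨_, hy⟩, ⟨z, hz⟩⟩)
  have f1 := fact_exG hF (by omega) hφ hr (Or.inl hrn)
  have f2 := fact_exG hF (by omega) hφ hs (Or.inr ⟨hn, hsn⟩)
  refine two_of_zeroG hF (by omega) (fun h => by omega) hr hrq f1.2 t ht1 (by rw [ht2, h3]) fun g hg => ?_
  have h4 := ht3 g hg
  simp only [Finset.mem_insert, Finset.mem_singleton] at h4
  have : Fact r.Prime := ⟨hr⟩
  have : Fact s.Prime := ⟨hs⟩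
  rcases h4 with h4 | h4 | h4
  · exact Cfsg.Agent.H713.irr_zero_of_singular f1.1 (by rw [h4])
  · exact Cfsg.Agent.H713.irr_zero_of_singular f2.1 (by rw [h4])
  · exact Cfsg.Agent.H713.irr_zero_of_singular f2.1 (by rw [h4]; exact dvd_mul_right _ _)

end Cfsg.Agent.H934.Two.PSU
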