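import Cfsg.Agent.H107.DZ.Fix
import Cfsg.Agent.H934.Two.PSUDeg

/-!
# `PSU_4(q)`, `q ≥ 4` : three classes of elements of order divisible by a prime `r ∣ q² - q + 1`

* `no_inv` : an element of prime order `r`, `orderOf (|F| : ZMod r) = 3`, of `GL_4(F)` is not conjugate to its
  inverse.
* `exists_tor` : elements of order dividing `(q³ + 1) / gcd(4, q + 1)`.
-/

set_option autoImplicit false
set_option linter.unusedSectionVars false

open Cfsg

namespace Cfsg.Agent.H934.Two.PSU

open Matrix Polynomial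

section noinv

open Cfsg.Agent.H107.DZ

variable {F : Type*} [Field F] [Fintype F] {ι : Type*} [Fintype ι] [DecidableEq ι]
  {K : Type*} [Field K] [IsAlgClosed K] [Algebra F K] {r : ℕ} [hr : Fact r.Prime]

/-- an element of order prime to the characteristic with the only eigenvalue `1` is trivial -/
theorem exists_eig_ne_one (hq : ¬ r ∣ Fintype.card F) {A : GL ι F} (hA : A ^ r = 1) (h1 : A ≠ 1) :
    ∃ μ ∈ spectrum K (ext K A), μ ≠ 1 := by
  by_contra hcon
  push Not at hcon
  apply h1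
  obtain ⟨p, hp⟩ := CharP.exists F
  have hpp : Fact p.Prime := ⟨CharP.char_is_prime F p⟩
  have hpK : CharP K p := charP_of_injective_algebraMap (algebraMap F K).injective p
  have hroots : (ext K A).charpoly.roots = Multiset.replicate (Fintype.card ι) 1 := by
    rw [Multiset.eq_replicate]
    refine ⟨?_, fun b hb => ?_⟩
    · have h2 := splits_iff_card_roots.1 (IsAlgClosed.splits (ext K A).charpoly)
      rw [h2, Matrix.charpoly_natDegree_eq_dim]
    · exact hcon b ((Matrix.mem_spectrum_iff_isRoot_charpoly).2 (isRoot_of_mem_roots hb))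
  have h2 : (ext K A).charpoly = (X - 1) ^ Fintype.card ι := by
    rw [(IsAlgClosed.splits (ext K A).charpoly).eq_prod_roots_of_monic (Matrix.charpoly_monic _), hroots]
    simp
  have h3 : (ext K A - 1) ^ Fintype.card ι = 0 := by
    have h4 := Matrix.aeval_self_charpoly (ext K A)
    rw [h2, map_pow, map_sub, aeval_X, map_one] at h4
    exact h4
  have h4 : ((A : Matrix ι ι F) - 1) ^ Fintype.card ι = 0 := by
    apply Matrix.map_injective (algebraMap F K).injective
    change (((A : Matrix ι ι F) - 1) ^ Fintype.card ι).map (algebraMap F K) = (0 : Matrix ι ι F).map (algebraMap F K)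
    rw [Matrix.map_pow, Matrix.map_zero _ (map_zero _), Matrix.map_sub _ (map_sub _),
      Matrix.map_one _ (map_zero _) (map_one _)]
    exact h3
  obtain ⟨k, hk⟩ : ∃ k, Fintype.card ι ≤ p ^ k :=
    ⟨Fintype.card ι, (Nat.lt_pow_self hpp.out.one_lt).le⟩
  have h5 : ((A : Matrix ι ι F) - 1) ^ p ^ k = 0 := pow_eq_zero_of_le hk h4
  have h6 : A ^ p ^ k = 1 := by
    rcases isEmpty_or_nonempty ι with hι | hι
    · exact Subsingleton.elim _ _
    apply Units.ext
    rw [Units.val_pow_eq_pow_val, Units.val_one]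
    have hc : Commute (A : Matrix ι ι F) 1 := Commute.one_right _
    rw [sub_pow_char_pow_of_commute (p := p) k hc, one_pow, sub_eq_zero] at h5
    exact h5
  have h7 : r ≠ p := by
    rintro rfl
    exact hq ((CharP.cast_eq_zero_iff F r _).1 (FiniteField.cast_card_eq_zero F))
  have h8 : Nat.Coprime r (p ^ k) := Nat.Coprime.pow_right k ((Nat.coprime_primes hr.out hpp.out).2 h7)
  have h9 := Nat.dvd_gcd (orderOf_dvd_of_pow_eq_one hA) (orderOf_dvd_of_pow_eq_one h6)
  rw [Nat.coprime_iff_gcd_eq_one.1 h8, Nat.dvd_one, orderOf_eq_one_iff] at h9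
  exact h9

/-- **elements which are not conjugate to their inverses** -/
theorem no_inv (ho : orderOf ((Fintype.card F : ℕ) : ZMod r) = 3) (h4 : Fintype.card ι ≤ 4) (hr2 : r ≠ 2)
    {A B : GL ι F} (hA : A ^ r = 1) (h1 : A ≠ 1) (h : A⁻¹ = B * A * B⁻¹) : False := by
  classical
  have hq : ¬ r ∣ Fintype.card F := by
    intro h2
    rw [(ZMod.natCast_eq_zero_iff _ r).2 h2] at ho
    have h3 : orderOf (0 : ZMod r) = 0 := by
      rw [orderOf_eq_zero_iff']
      intro k hk
      rw [zero_pow (by omega)]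
      exact zero_ne_one
    omega
  let K := AlgebraicClosure F
  obtain ⟨μ, hμ, hμ1⟩ := exists_eig_ne_one (K := K) hq hA h1
  have hμr : μ ^ r = 1 := by
    have h2 := pow_orderOf hμ
    have h3 : orderOf A ∣ r := orderOf_dvd_of_pow_eq_one hA
    obtain ⟨c, hc⟩ := h3
    rw [hc, pow_mul, h2, one_pow]
  have ho' : orderOf μ = r := orderOf_eq_prime hμr hμ1
  -- the exponents
  let g : ZMod r → K := fun t => μ ^ t.val
  have hg : ∀ n : ℕ, g (n : ZMod r) = μ ^ n := by
    intro n
    show μ ^ ((n : ZMod r)).val = μ ^ n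
    rw [ZMod.val_natCast, ← ho', pow_mod_orderOf]
  have hgi : Function.Injective g := by
    intro a b hab
    have h2 := pow_injOn_Iio_orderOf (x := μ)
    rw [ho'] at h2
    exact ZMod.val_injective r (h2 (ZMod.val_lt a) (ZMod.val_lt b) hab)
  let S : Finset (ZMod r) := Finset.univ.filter fun t => g t ∈ spectrum K (ext K A)
  have hS1 : (1 : ZMod r) ∈ S := by
    rw [Finset.mem_filter]
    refine ⟨Finset.mem_univ _, ?_⟩
    have h2 := hg 1
    rw [Nat.cast_one, pow_one] at h2
    rw [h2]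
    exact hμ
  have hSa : ∀ t ∈ S, ((Fintype.card F : ℕ) : ZMod r) * t ∈ S := by
    intro t ht
    rw [Finset.mem_filter] at ht ⊢
    refine ⟨Finset.mem_univ _, ?_⟩
    have h2 := frob_mem ht.2 1
    rw [pow_one] at h2
    have h3 : g (((Fintype.card F : ℕ) : ZMod r) * t) = g t ^ Fintype.card F := by
      show _ = (μ ^ t.val) ^ Fintype.card F
      rw [← pow_mul, ← hg, Nat.cast_mul, ZMod.natCast_zmod_val, mul_comm]
    rw [h3]
    exact h2
  have hSn : ∀ t ∈ S, -t ∈ S := by
    intro t ht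
    rw [Finset.mem_filter] at ht ⊢
    refine ⟨Finset.mem_univ _, ?_⟩
    have h2 := pow_mem ht.2 (r - 1)
    have h3 : A ^ (r - 1) = A⁻¹ := by
      rw [eq_inv_iff_mul_eq_one, ← pow_succ, Nat.sub_add_cancel hr.out.one_lt.le, hA]
    rw [h3, h, mem_spec, Units.val_mul, Units.val_mul, Matrix.coe_units_inv, Matrix.charpoly_units_conj] at h2
    have h5 : g (-t) = g t ^ (r - 1) := by
      show _ = (μ ^ t.val) ^ (r - 1)
      rw [← pow_mul, ← hg, Nat.cast_mul, ZMod.natCast_zmod_val, Nat.cast_sub hr.out.one_lt.le]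
      simp
    rw [h5, mem_spec]
    exact h2
  have hScard : S.card ≤ 4 := by
    have hne : (ext K A).charpoly ≠ 0 := (Matrix.charpoly_monic _).ne_zero
    have h2 : S.card ≤ (ext K A).charpoly.roots.toFinset.card := by
      refine Finset.card_le_card_of_injOn g ?_ (fun a _ b _ hab => hgi hab)
      intro t ht
      rw [Finset.mem_coe, Multiset.mem_toFinset, mem_roots hne]
      exact (Matrix.mem_spectrum_iff_isRoot_charpoly).1 (Finset.mem_filter.1 (Finset.mem_coe.1 ht)).2
    have h3 := (ext K A).charpoly.card_roots'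
    have h5 := Multiset.toFinset_card_le (ext K A).charpoly.roots
    have h6 : (ext K A).charpoly.natDegree = Fintype.card ι := Matrix.charpoly_natDegree_eq_dim _
    omega
  set a : ZMod r := ((Fintype.card F : ℕ) : ZMod r) with ha
  have ha3 : a ^ 3 = 1 := by rw [← ho, pow_orderOf_eq_one]
  have ha1 : a ≠ 1 := by
    intro h2
    rw [h2, orderOf_one] at ho
    omega
  have h20 : (2 : ZMod r) ≠ 0 := by
    intro h2
    have h3 : ((2 : ℕ) : ZMod r) = 0 := by exact_mod_cast h2
    rw [ZMod.natCast_eq_zero_iff] at h3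
    exact hr2 ((Nat.prime_dvd_prime_iff_eq hr.out Nat.prime_two).1 h3)
  have hna : a ≠ -1 := by
    intro h2
    rw [h2] at ha3
    apply h20
    linear_combination -ha3
  have ha0 : a ≠ 0 := by
    intro h2
    rw [h2] at ha3
    exact zero_ne_one (by rw [← ha3]; ring)
  have h11 : (1 : ZMod r) ≠ -1 := by
    intro h2
    apply h20
    linear_combination h2
  have hsub : ({1, a, a * a, -1, -a} : Finset (ZMod r)) ⊆ S := by
    intro t ht
    simp only [Finset.mem_insert, Finset.mem_singleton] at ht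
    have e1 : a ∈ S := by
      have := hSa 1 hS1
      rwa [mul_one] at this
    rcases ht with rfl | rfl | rfl | rfl | rfl
    · exact hS1
    · exact e1
    · exact hSa a e1
    · exact hSn 1 hS1
    · exact hSn a e1
  have hcard : ({1, a, a * a, -1, -a} : Finset (ZMod r)).card = 5 := by
    have e1 : (1 : ZMod r) ≠ a * a := fun h2 => ha1 (by
      calc a = a * 1 := (mul_one a).symm
        _ = a ^ 3 := by rw [h2]; ring
        _ = 1 := ha3)
    have e2 : a ≠ a * a := fun h2 => ha1 (mul_left_cancel₀ ha0 (by rw [mul_one]; exact h2.symm))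
    have e3 : (1 : ZMod r) ≠ -a := fun h2 => hna (by rw [h2, neg_neg])
    have e4 : a ≠ -a := fun h2 => h20 (by
      have h3 : 2 * a = 0 := by linear_combination h2
      exact (mul_eq_zero.1 h3).resolve_right ha0)
    have e5 : a * a ≠ -1 := fun h2 => e3 (by
      calc (1 : ZMod r) = a ^ 3 := ha3.symm
        _ = (a * a) * a := by ring
        _ = -a := by rw [h2, neg_one_mul])
    have e6 : a * a ≠ -a := fun h2 => hna (mul_left_cancel₀ ha0 (by rw [mul_neg, mul_one]; exact h2))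
    have e7 : (-1 : ZMod r) ≠ -a := fun h2 => ha1 (neg_injective h2).symm
    rw [Finset.card_insert_of_notMem, Finset.card_insert_of_notMem, Finset.card_insert_of_notMem, Finset.card_pair e7]
    · simp only [Finset.mem_insert, Finset.mem_singleton, not_or]
      exact ⟨e5, e6⟩
    · simp only [Finset.mem_insert, Finset.mem_singleton, not_or]
      exact ⟨e2, hna, e4⟩
    · simp only [Finset.mem_insert, Finset.mem_singleton, not_or]
      exact ⟨ha1.symm, e1, h11, e3⟩
  have := Finset.card_le_card hsub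
  omega

end noinv


section psu

open Cfsg.Agent.H72.AdjPSU Cfsg.Agent.H504.Zeros Cfsg.Agent.H504.TwoZ Cfsg.Agent.H103.UniBlock Cfsg.Agent.H103.PGUUpper
open Cfsg.Agent.ClassicalGeometry.GUBasic Cfsg.Agent.LieClassical Cfsg.Agent.H674.SUTools Cfsg.Agent.H674.SUBlock Cfsg.Agent.H674.TwelvePSU
  Cfsg.Agent.H113.PSU.Levi Cfsg.Agent.H113.PSU.Facts Cfsg.Agent.H186 Cfsg.Agent.H127

variable {F : Type} [Field F] [Fintype F] {q : ℕ}

/-- elements of prime order `r`, `nu q r = 3`, are not conjugate to their inverses -/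
theorem not_conj_inv (hF : Fintype.card F = q ^ 2) {r : ℕ} (hr : r.Prime) (hnu : nu q r = 3) {ρ : PSU 4 F q}
    (hρ : orderOf ρ = r) : ¬ IsConj ρ ρ⁻¹ := by
  have : Fact r.Prime := ⟨hr⟩
  intro hconj
  have hr2 : r ≠ 2 := by
    rintro rfl
    have h1 : orderOf (-(q : ZMod 2)) ≤ 2 := by
      have := orderOf_le_card_univ (x := (-(q : ZMod 2)))
      rwa [ZMod.card] at this
    rw [nu] at hnu
    omega
  have ho : orderOf ((Fintype.card F : ℕ) : ZMod r) = 3 := by
    have h1 : ((Fintype.card F : ℕ) : ZMod r) = (-(q : ZMod r)) ^ 2 := by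
      rw [hF]
      push_cast
      ring
    rw [h1, orderOf_pow' _ (by norm_num)]
    have h2 : orderOf (-(q : ZMod r)) = 3 := hnu
    rw [h2]
    norm_num
  obtain ⟨x, rfl⟩ := pr_surjective ρ
  -- a lift of order `r`
  have hco : Nat.Coprime r 4 := by
    have h1 : Nat.Coprime r 2 := (Nat.coprime_primes hr Nat.prime_two).2 hr2
    exact Nat.Coprime.pow_right 2 h1
  obtain ⟨k, hk1, hk2⟩ := Nat.chineseRemainder hco 1 0
  have hz4 : ∀ z ∈ Subgroup.center (Cfsg.SU 4 F q), z ^ 4 = 1 := by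
    intro z hz
    obtain ⟨c, hc1, hc2, rfl⟩ := (SUBasic.mem_center_SU_iff hF (by norm_num) z).1 hz
    rw [← cm_pow_eq_one_iff]
    show Matrix.diagonal (fun _ => c) ^ 4 = 1
    rw [Matrix.diagonal_pow]
    have h1 : (fun _ : Fin 4 => c) ^ 4 = 1 := by
      funext i
      exact hc1
    rw [h1]
    exact Matrix.diagonal_one
  obtain ⟨y, hy⟩ : ∃ y, y = x ^ k := ⟨_, rfl⟩
  have hpy : pr y = pr x := by
    rw [hy, map_pow]
    conv_rhs => rw [← pow_one (pr x)]
    rw [pow_eq_pow_iff_modEq, hρ]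
    exact hk1
  have hyr : y ^ r = 1 := by
    have h1 : x ^ r ∈ Subgroup.center (Cfsg.SU 4 F q) := by
      rw [← pr_eq_one_iff, map_pow, ← hρ, pow_orderOf_eq_one]
    obtain ⟨j, hj⟩ : 4 ∣ k := (Nat.modEq_zero_iff_dvd).1 hk2
    rw [hy, ← pow_mul, hj, show 4 * j * r = r * 4 * j by ring, pow_mul, pow_mul, hz4 _ h1, one_pow]
  have hy1 : y ≠ 1 := by
    rintro rfl
    rw [← hpy, map_one, orderOf_one] at hρ
    exact hr.one_lt.ne hρ
  rw [← hpy, ← map_inv] at hconj
  obtain ⟨c, P, Q, hc4, hcq, hPQ, hQP, h⟩ := Cfsg.Agent.H279.ZerosPSU.sim_of_pr hF (by norm_num) hconj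
  have hPM : ∀ m : ℕ, (P * cm y * Q) ^ m = P * cm y ^ m * Q := by
    intro m
    induction m with
    | zero => simp [hPQ]
    | succ m ih =>
      rw [pow_succ, ih, pow_succ]
      calc P * cm y ^ m * Q * (P * cm y * Q) = P * cm y ^ m * (Q * P) * cm y * Q := by simp only [mul_assoc]
        _ = _ := by rw [hQP, mul_one]; simp only [mul_assoc]
  have hc1 : c = 1 := by
    have h1 : (cm y⁻¹ : Matrix (Fin 4) (Fin 4) F) ^ r = 1 := by
      rw [← map_pow, inv_pow, hyr, inv_one, map_one]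
    rw [h, _root_.smul_pow, hPM, (cm_pow_eq_one_iff y r).2 hyr, mul_one, hPQ] at h1
    have h2 := congrFun (congrFun h1 0) 0
    simp at h2
    have h3 := Nat.dvd_gcd (orderOf_dvd_of_pow_eq_one h2) (orderOf_dvd_of_pow_eq_one hc4)
    rw [Nat.coprime_iff_gcd_eq_one.1 hco, Nat.dvd_one, orderOf_eq_one_iff] at h3
    exact h3
  rw [hc1, one_smul] at h
  have hyy : (cm y : Matrix (Fin 4) (Fin 4) F) * cm y⁻¹ = 1 := by rw [← map_mul, mul_inv_cancel, map_one]
  have hyy' : (cm y⁻¹ : Matrix (Fin 4) (Fin 4) F) * cm y = 1 := by rw [← map_mul, inv_mul_cancel, map_one]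
  let A : GL (Fin 4) F := ⟨cm y, cm y⁻¹, hyy, hyy'⟩
  let B : GL (Fin 4) F := ⟨P, Q, hPQ, hQP⟩
  refine no_inv (r := r) ho (by simp) hr2 (A := A) (B := B) ?_ ?_ ?_
  · apply Units.ext
    rw [Units.val_pow_eq_pow_val, Units.val_one]
    exact (cm_pow_eq_one_iff y r).2 hyr
  · intro h1
    apply hy1
    rw [← cm_eq_one_iff]
    exact congrArg Units.val h1
  · apply Units.ext
    exact h

/-- **elements of the torus of order `(q³ + 1) / gcd(4, q + 1)`** -/
theorem exists_tor (hF : Fintype.card F = q ^ 2) :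
    ∀ s, s ∣ (q ^ 3 + 1) / Nat.gcd 4 (q + 1) → ∃ z : PSU 4 F q, orderOf z = s := by
  obtain ⟨p, hp, hc, hpq⟩ := exists_char hF
  have : Fact p.Prime := ⟨hp⟩
  obtain ⟨j, hj, hj1⟩ := hpq
  obtain ⟨B, hB, hBo⟩ := exists_singer_unitary (p := p) hj hF (m := 3) (by decide)
  have hdet := det_pow hF hB
  have hd0 : (B : Matrix (Fin 3) (Fin 3) F).det ≠ 0 := by
    intro h
    rw [h, zero_pow (by omega)] at hdet
    exact zero_ne_one hdet
  obtain ⟨c, hc⟩ : ∃ c, c = ((B : Matrix (Fin 3) (Fin 3) F).det)⁻¹ := ⟨_, rfl⟩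
  have hcq : c ^ (q + 1) = 1 := by rw [hc, inv_pow, hdet, inv_one]
  have hU : Uni q (c • (1 : Matrix (Fin 1) (Fin 1) F)) := by
    refine ⟨1, isUnit_one, ?_⟩
    rw [st_smul, st_one hF, mul_one, Matrix.smul_mul, Matrix.mul_smul, one_mul, smul_smul, ← pow_succ, hcq, one_smul]
  have hg : Nat.gcd 4 (q + 1) ∣ q ^ 3 + 1 := by
    refine (Nat.gcd_dvd_right _ _).trans ?_
    have := Odd.nat_add_dvd_pow_add_pow q 1 (n := 3) (by decide)
    rwa [one_pow] at this
  refine exists_order_of_index hF (by norm_num) (finSumFinEquiv (m := 3) (n := 1)).symm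
    (A := Matrix.fromBlocks (B : Matrix (Fin 3) (Fin 3) F) 0 0 (c • 1)) (uni_fromBlocks (by
      have := two_le hF
      omega) hB hU) ?_ ?_
  · rw [Matrix.det_fromBlocks_zero₂₁, Matrix.det_smul, Matrix.det_one, hc]
    simp [hd0]
  · intro k d hk
    rw [fromBlocks_pow] at hk
    obtain ⟨h1, h2⟩ := fromBlocks_eq_smul hk
    have h3 : c ^ k = d := by
      have h4 := congrFun (congrFun h2 0) 0
      rw [_root_.smul_pow, one_pow] at h4
      simpa using h4
    have h4 : (B : Matrix (Fin 3) (Fin 3) F).det ^ k = d ^ 3 := by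
      rw [← Matrix.det_pow, h1, Matrix.det_smul, Matrix.det_one, mul_one, Fintype.card_fin]
    have h5 : d ^ 4 = 1 := by
      calc d ^ 4 = d * d ^ 3 := by ring
        _ = 1 := by rw [← h4, ← h3, hc, ← mul_pow, inv_mul_cancel₀ hd0, one_pow]
    have h6 : d ^ (q + 1) = 1 := by rw [← h3, ← pow_mul, mul_comm, pow_mul, hcq, one_pow]
    have h7 : d ^ Nat.gcd 4 (q + 1) = 1 := by
      rw [← orderOf_dvd_iff_pow_eq_one]
      exact Nat.dvd_gcd (orderOf_dvd_of_pow_eq_one h5) (orderOf_dvd_of_pow_eq_one h6)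
    have h8 : B ^ (k * Nat.gcd 4 (q + 1)) = 1 := by
      apply Units.ext
      rw [Units.val_pow_eq_pow_val, Units.val_one, pow_mul, h1, _root_.smul_pow, one_pow, h7, one_smul]
    have h9 := orderOf_dvd_of_pow_eq_one h8
    rw [hBo] at h9
    obtain ⟨N, hN⟩ := hg
    have hg0 : 0 < Nat.gcd 4 (q + 1) := Nat.gcd_pos_of_pos_left _ (by norm_num)
    rw [hN, Nat.mul_div_cancel_left _ hg0]
    rw [hN, mul_comm k] at h9
    exact Nat.dvd_of_mul_dvd_mul_left hg0 h9

/-- **`PSU_4(q)`, `q ≥ 4`** -/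
theorem two_four (hF : Fintype.card F = q ^ 2) (hq : 4 ≤ q) : Two (PSU 4 F q) := by
  classical
  have hfin := finite_psu (F := F) 4 q
  obtain ⟨φ, hφ⟩ := exG (F := F) hF (n := 4) le_rfl
  obtain ⟨r, hr, hrn⟩ := exists_nu hF (i := 3) le_rfl (by omega)
  have : Fact r.Prime := ⟨hr⟩
  have hrq := not_dvd_q_of_nu hr hrn (by norm_num)
  have f1 := fact_exG hF le_rfl hφ hr (Or.inl hrn)
  have hr1 : ¬ r ∣ q + 1 := fun h => by
    have := nu_eq_one h
    omega
  have hr3 : r ∣ q ^ 3 + 1 := by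
    have h1 : uu q 3 = q ^ 3 + 1 := by unfold uu; rw [if_neg (by decide)]
    rw [← h1, dvd_uu_iff (by omega), hrn]
  have hfac : (q + 1) * (q ^ 2 - q + 1) = q ^ 3 + 1 := by
    obtain ⟨k, rfl⟩ : ∃ k, q = k + 1 := ⟨q - 1, by omega⟩
    have h1 : (k + 1) ^ 2 - (k + 1) = k * (k + 1) := by
      have : (k + 1) ^ 2 = k * (k + 1) + (k + 1) := by ring
      omega
    rw [h1]
    ring
  have hrle : r ≤ q ^ 2 - q + 1 := by
    rw [← hfac] at hr3
    exact Nat.le_of_dvd (by omega) ((hr.dvd_mul.1 hr3).resolve_left hr1)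
  have hg : Nat.gcd 4 (q + 1) ∣ q ^ 3 + 1 := by
    refine (Nat.gcd_dvd_right _ _).trans ?_
    rw [← hfac]
    exact dvd_mul_right _ _
  obtain ⟨N, hN⟩ := hg
  have hg0 : 0 < Nat.gcd 4 (q + 1) := Nat.gcd_pos_of_pos_left _ (by norm_num)
  have hg4 : Nat.gcd 4 (q + 1) ≤ 4 := Nat.gcd_le_left _ (by norm_num)
  have hT := exists_tor hF
  rw [hN, Nat.mul_div_cancel_left _ hg0] at hT
  have hrN : r ∣ N := by
    rw [hN] at hr3
    exact (hr.dvd_mul.1 hr3).resolve_left fun h => hr1 (h.trans (Nat.gcd_dvd_right _ _))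
  have hNr : N ≠ r := by
    rintro rfl
    have h1 : (q + 1) * (q ^ 2 - q + 1) ≤ 4 * N := by
      rw [hfac, hN]
      exact Nat.mul_le_mul_right _ hg4
    have h2 : 5 * N ≤ (q + 1) * (q ^ 2 - q + 1) := Nat.mul_le_mul (by omega) hrle
    have := hr.pos
    omega
  obtain ⟨ρ, hρ⟩ := hT r hrN
  obtain ⟨z, hz⟩ := hT N dvd_rfl
  have hnc := not_conj_inv hF hr hrn hρ
  have hρi : orderOf ρ⁻¹ = r := by rw [orderOf_inv, hρ]
  have hzn : ∀ y : PSU 4 F q, orderOf y = r → ¬ IsConj y z := by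
    intro y hy h
    have h1 : orderOf y = orderOf z := by
      obtain ⟨c, rfl⟩ := isConj_iff.1 h
      exact ((MulAut.conj c).orderOf_eq y).symm
    rw [hy, hz] at h1
    exact hNr h1.symm
  have h12 : ρ ≠ ρ⁻¹ := fun h => hnc (by rw [← h])
  have h13 : ρ ≠ z := fun h => hzn ρ hρ (by rw [← h])
  have h23 : ρ⁻¹ ≠ z := fun h => hzn ρ⁻¹ hρi (by rw [← h])
  refine two_of_zeroG hF le_rfl (fun _ => by omega) hr hrq f1.2 {ρ, ρ⁻¹, z} ?_ ?_ ?_
  · intro a ha b hb hab
    simp only [Finset.mem_insert, Finset.mem_singleton] at ha hb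
    rcases ha with rfl | rfl | rfl <;> rcases hb with rfl | rfl | rfl
    · rfl
    · exact absurd hab hnc
    · exact absurd hab (hzn _ hρ)
    · exact absurd hab.symm hnc
    · rfl
    · exact absurd hab (hzn _ hρi)
    · exact absurd hab.symm (hzn _ hρ)
    · exact absurd hab.symm (hzn _ hρi)
    · rfl
  · rw [Finset.card_insert_of_notMem, Finset.card_pair h23]
    simp only [Finset.mem_insert, Finset.mem_singleton, not_or]
    exact ⟨h12, h13⟩
  · intro g hg
    simp only [Finset.mem_insert, Finset.mem_singleton] at hg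
    rcases hg with rfl | rfl | rfl
    · exact Cfsg.Agent.H713.irr_zero_of_singular f1.1 (by rw [hρ])
    · exact Cfsg.Agent.H713.irr_zero_of_singular f1.1 (by rw [hρi])
    · exact Cfsg.Agent.H713.irr_zero_of_singular f1.1 (by rw [hz]; exact hrN)

end psu

end Cfsg.Agent.H934.Two.PSU
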