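import Cfsg.Agent.H107.DZ.PSpAll
import Cfsg.Agent.H113.OB.Seven
import Cfsg.Agent.H934.Two.PSUFour
import Cfsg.Agent.S0822

/-!
# S4897, row `PSU_n(q)`, `n ≥ 4`
-/

set_option autoImplicit false
set_option maxRecDepth 20000
set_option linter.unusedSectionVars false

open Cfsg

namespace Cfsg.Agent.H934.Two.PSU

open Matrix Cfsg.Agent.H72.AdjPSU Cfsg.Agent.H504.Zeros Cfsg.Agent.H504.TwoZ
open Cfsg.Agent.ClassicalGeometry.GUBasic Cfsg.Agent.LieClassical Cfsg.Agent.H674.SUTools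
  Cfsg.Agent.H674.SUBlock Cfsg.Agent.H674.Explicit Cfsg.Agent.H674.ExplicitCases
  Cfsg.Agent.H674.TwelvePSU Cfsg.Agent.H279.ZerosPSU2
  Cfsg.Agent.H113.PSU.Levi Cfsg.Agent.H113.PSU.Facts

section five

theorem eig15 : m15 *ᵥ ![⟨1, 0⟩, ⟨1, 1⟩, ⟨1, 1⟩, ⟨1, 1⟩, ⟨1, 1⟩] =
    (⟨0, 1⟩ : F4) • ![⟨1, 0⟩, ⟨1, 1⟩, ⟨1, 1⟩, ⟨1, 1⟩, ⟨1, 1⟩] := by decide +kernel

/-- the inverse of `m15 ^ 14 - w` -/
def n15 : Matrix (Fin 5) (Fin 5) F4 :=
  !![⟨1, 0⟩, ⟨1, 0⟩, ⟨1, 1⟩, ⟨0, 0⟩, ⟨0, 1⟩; ⟨0, 1⟩, ⟨0, 1⟩, ⟨1, 0⟩, ⟨1, 1⟩, ⟨0, 1⟩; ⟨1, 1⟩, ⟨0, 1⟩, ⟨1, 0⟩, ⟨0, 0⟩, ⟨1, 1⟩; ⟨0, 0⟩, ⟨1, 1⟩, ⟨0, 0⟩, ⟨0, 1⟩, ⟨0, 0⟩; ⟨1, 0⟩, ⟨1, 0⟩, ⟨1, 1⟩, ⟨0, 0⟩, ⟨1, 0⟩]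

theorem n15_mul : n15 * (m15 ^ 14 - (⟨0, 1⟩ : F4) • 1) = 1 := by decide +kernel

/-- `PSU_5(2)` -/
theorem two_fivetwo' : Two (PSU 5 F4 2) := by
  have hfin := finite_psu (F := F4) 5 2
  obtain ⟨φ, hφ⟩ := exG (F := F4) h4 (n := 5) (by norm_num)
  have e1 : uu 2 (5 - 1) = 15 := by decide
  have e2 : uu 2 (5 - 2) = 9 := by decide
  rw [e1, e2] at hφ
  have hD : charDegree (φ : PSU 5 F4 2 → ℂ) = 120 := by omega
  have hcard : Nat.card (PSU 5 F4 2) = 13685760 := by
    have h := S0280.result h4 5 (by norm_num)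
    norm_num [Finset.prod_range_succ, Nat.even_iff] at h
    omega
  have f5 : (120 : ℕ).factorization 5 = 1 := by
    rw [show (120 : ℕ) = 5 ^ 1 * 24 by norm_num, Nat.factorization_mul (by norm_num) (by norm_num), Finsupp.add_apply,
      Nat.Prime.factorization_pow (by norm_num), Finsupp.single_eq_same,
      Nat.factorization_eq_zero_of_not_dvd (by norm_num)]
  have g5 : (13685760 : ℕ).factorization 5 = 1 := by
    rw [show (13685760 : ℕ) = 5 ^ 1 * 2737152 by norm_num, Nat.factorization_mul (by norm_num) (by norm_num),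
      Finsupp.add_apply, Nat.Prime.factorization_pow (by norm_num), Finsupp.single_eq_same,
      Nat.factorization_eq_zero_of_not_dvd (by norm_num)]
  have hp5 : Nat.Prime 5 := by norm_num
  have : Fact (Nat.Prime 5) := ⟨hp5⟩
  have hfac : (charDegree (φ : PSU 5 F4 2 → ℂ)).factorization 5 = (Nat.card (PSU 5 F4 2)).factorization 5 := by
    rw [hD, hcard, f5, g5]
  -- the elements
  obtain ⟨-, -, -, g15, -⟩ := good52
  obtain ⟨-, -, -, o15, -⟩ := ord52
  obtain ⟨x, hx⟩ := exists_of_good h4 g15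
  have hox : orderOf x = 15 := by rw [← orderOf_cm, hx, ord_of (by norm_num) o15]
  have hinj : Function.Injective (pr : SU 5 F4 2 →* PSU 5 F4 2) := by
    rw [injective_iff_map_eq_one]
    intro y hy
    obtain ⟨c, hc1, hc2, h1⟩ := (SUBasic.mem_center_SU_iff h4 (by norm_num) _).1 ((pr_eq_one_iff _).1 hy)
    have hc : c = 1 := by
      have h2 := Nat.dvd_gcd (orderOf_dvd_of_pow_eq_one hc1) (orderOf_dvd_of_pow_eq_one hc2)
      rw [show Nat.gcd 5 (2 + 1) = 1 by norm_num, Nat.dvd_one, orderOf_eq_one_iff] at h2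
      exact h2
    subst hc
    rw [← cm_eq_one_iff, h1]
    exact Matrix.diagonal_one
  have hopr : ∀ y : SU 5 F4 2, orderOf (pr y) = orderOf y := fun y => orderOf_injective _ hinj y
  have ho1 : orderOf (pr x) = 15 := by rw [hopr, hox]
  have ho2 : orderOf (pr x)⁻¹ = 15 := by rw [orderOf_inv, ho1]
  have ho3 : orderOf (pr x ^ 3) = 5 := by
    rw [orderOf_pow_of_dvd (by norm_num) (by rw [ho1]; norm_num), ho1]
  have hnc : ¬ IsConj (pr x) (pr x)⁻¹ := by
    intro h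
    rw [← map_inv] at h
    obtain ⟨c, P, Q, hc5, hc3, hPQ, hQP, h⟩ := Cfsg.Agent.H279.ZerosPSU.sim_of_pr h4 (by norm_num) h
    have hc : c = 1 := by
      have h2 := Nat.dvd_gcd (orderOf_dvd_of_pow_eq_one hc5) (orderOf_dvd_of_pow_eq_one hc3)
      rw [show Nat.gcd 5 (2 + 1) = 1 by norm_num, Nat.dvd_one, orderOf_eq_one_iff] at h2
      exact h2
    have hx14 : cm x⁻¹ = m15 ^ 14 := by
      have h1 : x⁻¹ = x ^ 14 := by
        have h2 : x ^ 15 = 1 := by rw [← hox, pow_orderOf_eq_one]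
        rw [inv_eq_iff_mul_eq_one, ← pow_succ']
        exact h2
      rw [h1, map_pow, hx]
    rw [hc, one_smul, hx14, hx] at h
    set v : Fin 5 → F4 := ![⟨1, 0⟩, ⟨1, 1⟩, ⟨1, 1⟩, ⟨1, 1⟩, ⟨1, 1⟩] with hv
    have h1 : (m15 ^ 14) *ᵥ (P *ᵥ v) = (⟨0, 1⟩ : F4) • (P *ᵥ v) := by
      rw [h, Matrix.mulVec_mulVec, mul_assoc, mul_assoc, hQP, mul_one, ← Matrix.mulVec_mulVec, eig15,
        Matrix.mulVec_smul]
    have h2 : (m15 ^ 14 - (⟨0, 1⟩ : F4) • 1) *ᵥ (P *ᵥ v) = 0 := by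
      rw [Matrix.sub_mulVec, h1, Matrix.smul_mulVec, Matrix.one_mulVec, sub_self]
    have h3 : P *ᵥ v = 0 := by
      calc P *ᵥ v = (n15 * (m15 ^ 14 - (⟨0, 1⟩ : F4) • 1)) *ᵥ (P *ᵥ v) := by rw [n15_mul, Matrix.one_mulVec]
        _ = 0 := by rw [← Matrix.mulVec_mulVec, h2, Matrix.mulVec_zero]
    have h5 : v = 0 := by
      calc v = (Q * P) *ᵥ v := by rw [hQP, Matrix.one_mulVec]
        _ = 0 := by rw [← Matrix.mulVec_mulVec, h3, Matrix.mulVec_zero]
    have h6 := congrFun h5 0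
    revert h6
    rw [hv]
    decide
  have hne : ∀ {a b : PSU 5 F4 2}, orderOf a ≠ orderOf b → ¬ IsConj a b := by
    intro a b hab h
    apply hab
    obtain ⟨c, rfl⟩ := isConj_iff.1 h
    exact ((MulAut.conj c).orderOf_eq a).symm
  have c13 : ¬ IsConj (pr x) (pr x ^ 3) := hne (by rw [ho1, ho3]; norm_num)
  have c23 : ¬ IsConj (pr x)⁻¹ (pr x ^ 3) := hne (by rw [ho2, ho3]; norm_num)
  have h12 : pr x ≠ (pr x)⁻¹ := fun h => hnc (by rw [← h])
  have h13 : pr x ≠ pr x ^ 3 := fun h => c13 (by rw [← h])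
  have h23 : (pr x)⁻¹ ≠ pr x ^ 3 := fun h => c23 (by rw [← h])
  classical
  refine two_of_zeroG h4 (n := 5) (by norm_num) (fun h => by omega) (φ := φ) hp5 (by norm_num) (by rw [hD, f5]; norm_num)
    {pr x, (pr x)⁻¹, pr x ^ 3} ?_ ?_ ?_
  · intro a ha b hb hab
    simp only [Finset.mem_insert, Finset.mem_singleton] at ha hb
    rcases ha with rfl | rfl | rfl <;> rcases hb with rfl | rfl | rfl
    · rfl
    · exact absurd hab hnc
    · exact absurd hab c13
    · exact absurd hab.symm hnc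
    · rfl
    · exact absurd hab c23
    · exact absurd hab.symm c13
    · exact absurd hab.symm c23
    · rfl
  · rw [Finset.card_insert_of_notMem, Finset.card_pair h23]
    simp only [Finset.mem_insert, Finset.mem_singleton, not_or]
    exact ⟨h12, h13⟩
  · intro g hg
    simp only [Finset.mem_insert, Finset.mem_singleton] at hg
    rcases hg with rfl | rfl | rfl
    · exact Cfsg.Agent.H713.irr_zero_of_singular hfac (by rw [ho1]; norm_num)
    · exact Cfsg.Agent.H713.irr_zero_of_singular hfac (by rw [ho2]; norm_num)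
    · exact Cfsg.Agent.H713.irr_zero_of_singular hfac (by rw [ho3])

theorem two_fivetwo {F : Type} [Field F] [Fintype F] (hF : Fintype.card F = 2 ^ 2) : Two (PSU 5 F 2) := by
  have := finite_psu (F := F) 5 2
  exact two_fivetwo'.of_equiv (FieldTransfer.psuCongr 5 2 (FiniteField.ringEquivOfCardEq (hF.trans h4.symm)))

end five


section fourthree

open Cfsg.Agent.Characters.Core Cfsg.Agent.H526.OB Cfsg.Agent.H113.OB
open Cfsg.Agent.SmallSimple.LocalData Cfsg.Agent.SmallSimple.DegreeData Cfsg.Agent.H424.BlockTools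
  Cfsg.Agent.H424.BlockTools2 Subgroup Cfsg.Agent.H113

/-- `PSU_4(3)` has an irreducible character of degree `640` (the argument of `H113.OB.nb_u43`) -/
theorem mem_640 {F : Type} [Field F] [Fintype F] (hF : Fintype.card F = 3 ^ 2) : 640 ∈ charDegrees (PSU 4 F 3) := by
  have : Fact (Nat.Prime 7) := ⟨by norm_num⟩
  have h3 : Fact (Nat.Prime 3) := ⟨Nat.prime_three⟩
  have hs : IsSimpleGroup (PSU 4 F 3) := S0283.result hF 4 (by norm_num) (by norm_num)
  have hcard : Nat.card (PSU 4 F 3) = 3265920 := CTwoTab.card_psu_four_three (by rw [hF]; norm_num)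
  have hG := SmallSimple.OrdersA.not_comm hcard (by norm_num)
  obtain ⟨R, hR, hC⟩ := Cfsg.Agent.H809.SelfCent.psu_selfcent 4 3 7 (by decide) F hF
  have h := data_seven hG hcard (by norm_num) (by norm_num) (by norm_num) R hR hC
  obtain ⟨M, hM, ⟨D⟩⟩ := exists_block h (by norm_num) default (t := 2) (by norm_num)
  -- degree 90
  obtain ⟨φ, hφ⟩ := PSU.Facts.exF (F := F) (q := 3) (n := 4) hF le_rfl
  have h90 : 90 ∈ charDegrees (PSU 4 F 3) := by
    refine ⟨φ, ?_⟩
    have e4 : PSU.Levi.uu 3 4 = 80 := by decide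
    have e1 : PSU.Levi.uu 3 (4 - 3) = 4 := by decide
    rw [e4, e1] at hφ
    omega
  -- degree 729
  have hchar : CharP F 3 := by
    obtain ⟨p, hp⟩ := CharP.exists F
    have hpr : p.Prime := (CharP.char_is_prime_or_zero F p).resolve_right (CharP.char_ne_zero_of_finite F p)
    have : Fact p.Prime := ⟨hpr⟩
    obtain ⟨s, hs0, hs⟩ := FiniteField.card F p
    rw [hF] at hs
    have h1 : p ∣ 3 ^ 2 := by rw [hs]; exact dvd_pow_self _ s.ne_zero
    have h2 : p = 3 := (Nat.prime_dvd_prime_iff_eq hpr Nat.prime_three).1 (hpr.dvd_of_dvd_pow h1)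
    subst h2
    exact hp
  have hlie : IsLieTypeChar 3 (PSU 4 F 3) :=
    Or.inr (Or.inr (Or.inl ⟨F, inferInstance, inferInstance, hchar, 4, 3, hF, by norm_num, by norm_num,
      ⟨MulEquiv.refl _⟩⟩))
  have h729 : 729 ∈ charDegrees (PSU 4 F 3) := by
    obtain ⟨χ, hχ, h1, -⟩ := H167.StChar.hasSt_of_lie Nat.prime_three hlie
    refine ⟨⟨χ, hχ⟩, Blocks.Knorr.charDegree_of_natCast ?_⟩
    change χ 1 = _
    rw [h1, hcard]
    have : (3265920 : ℕ).factorization 3 = 6 := by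
      rw [Nat.factorization_def _ Nat.prime_three]
      rw [show (3265920 : ℕ) = 3 ^ 6 * 4480 by norm_num, padicValNat.mul (by norm_num) (by norm_num),
        padicValNat.prime_pow, padicValNat.eq_zero_of_not_dvd (by norm_num)]
    rw [this]
    norm_num
  have hP := h.card_eq (default : Sylow 7 (PSU 4 F 3))
  have hCP : Nat.card (centralizer ((default : Sylow 7 (PSU 4 F 3)) : Set (PSU 4 F 3))) = 7 := by
    rw [h.card_centralizer]
  have c1 := degree_cases hM D hP hCP (by norm_num) h90 (by norm_num)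
  have c2 := degree_cases hM D hP hCP (by norm_num) h729 (by norm_num)
  have hlen := D.length_degs
  obtain ⟨a, b, hab⟩ : ∃ a b, D.degs = [a, b] := List.length_eq_two.1 (by omega)
  have hspec := D.degs_spec hP
  have hexc := D.dexc_modEq hP (by norm_num)
  rw [← D.dexc_eq (by norm_num)] at hexc
  have hmem := dexc_mem D (by norm_num)
  rw [hab] at c1 c2 hspec hexc hmem
  simp only [List.mem_cons, List.not_mem_nil, or_false, exists_eq_or_imp, exists_eq_left, List.sum_cons,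
    List.sum_nil, add_zero, forall_eq_or_imp, forall_eq] at c1 c2 hspec hexc hmem
  obtain ⟨⟨ha, -, -⟩, ⟨hb, -, -⟩⟩ := hspec
  unfold Int.ModEq at ha hb hexc
  push_cast at ha hb hexc
  have hd : (1 + (a + b)).natAbs = 640 := by omega
  rw [hd] at hmem
  exact hmem

/-- `PSU_4(3)` -/
theorem two_fourthree {F : Type} [Field F] [Fintype F] (hF : Fintype.card F = 3 ^ 2) : Two (PSU 4 F 3) := by
  have hfin := finite_psu (F := F) 4 3
  obtain ⟨φ, hφ⟩ := mem_640 hF
  have : Fact (Nat.Prime 2) := ⟨Nat.prime_two⟩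
  have hcard : Nat.card (PSU 4 F 3) = 3265920 := CTwoTab.card_psu_four_three (by rw [hF]; norm_num)
  have f2 : (640 : ℕ).factorization 2 = 7 := by
    rw [show (640 : ℕ) = 2 ^ 7 * 5 by norm_num, Nat.factorization_mul (by norm_num) (by norm_num), Finsupp.add_apply,
      Nat.Prime.factorization_pow (by norm_num), Finsupp.single_eq_same,
      Nat.factorization_eq_zero_of_not_dvd (by norm_num)]
  have g2 : (3265920 : ℕ).factorization 2 = 7 := by
    rw [show (3265920 : ℕ) = 2 ^ 7 * 25515 by norm_num, Nat.factorization_mul (by norm_num) (by norm_num),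
      Finsupp.add_apply, Nat.Prime.factorization_pow (by norm_num), Finsupp.single_eq_same,
      Nat.factorization_eq_zero_of_not_dvd (by norm_num)]
  have hfac : (charDegree (φ : PSU 4 F 3 → ℂ)).factorization 2 = (Nat.card (PSU 4 F 3)).factorization 2 := by
    rw [hφ, hcard, f2, g2]
  obtain ⟨p, hp, hc, hpq⟩ := exists_char hF
  have hp3 : p = 3 := by
    obtain ⟨j, hj, hj1⟩ := hpq
    have h1 : p ∣ 3 := by rw [hj]; exact dvd_pow_self _ (by omega)
    exact (Nat.prime_dvd_prime_iff_eq hp Nat.prime_three).1 h1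
  subst hp3
  have : Fact (Nat.Prime 3) := ⟨Nat.prime_three⟩
  have H1 := exists_order_of_blocks hF (n := 4) (by omega) (hasBlock_char hF 3) (hasBlock_two hF (d := 4) (by norm_num))
    (by norm_num) (by norm_num) (by omega) (by norm_num)
  obtain ⟨t, ht1, ht2, ht3⟩ := exists_of_orders (G := PSU 4 F 3) {2, 4, 6} (by
    simp only [Finset.mem_insert, Finset.mem_singleton, forall_eq_or_imp, forall_eq]
    exact ⟨H1 2 (by norm_num), H1 4 (by norm_num), H1 6 (by norm_num)⟩)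
  refine two_of_zeroG hF le_rfl (fun _ => by norm_num) (φ := φ) Nat.prime_two (by norm_num)
    (by rw [hφ, f2]; norm_num) t ht1 (by rw [ht2]; decide) fun g hg => ?_
  have h4 := ht3 g hg
  simp only [Finset.mem_insert, Finset.mem_singleton] at h4
  refine Cfsg.Agent.H713.irr_zero_of_singular hfac ?_
  rcases h4 with h4 | h4 | h4 <;> rw [h4] <;> norm_num

end fourthree

/-- **S4897, row `PSU_n(q)`, `n ≥ 4`** -/
theorem rowT_psu {F : Type} [Field F] [Fintype F] {n q : ℕ} (hF : Fintype.card F = q ^ 2) (hn : 4 ≤ n) :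
    Cfsg.Agent.H504.TwoZ.RowT (Cfsg.PSU n F q) := by
  have h2 := two_le hF
  have hfin := finite_psu (F := F) n q
  by_cases h42 : n = 4 ∧ q = 2
  · obtain ⟨rfl, rfl⟩ := h42
    obtain ⟨e⟩ := S0822.result (F := F) (K := ZMod 3) (by rw [hF]; norm_num) (ZMod.card 3)
    exact (Cfsg.Agent.H107.DZ.PSpRow.rowT_psp4 (F := ZMod 3) (by rw [ZMod.card])).of_equiv e
  · refine ⟨Or.inl ?_, row2_psu hF hn fun h4 h => h42 ⟨h4, h⟩⟩
    rcases Nat.eq_or_lt_of_le hn with rfl | h5
    · rcases Nat.lt_or_ge q 4 with h | h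
      · have h3 : q = 3 := by omega
        subst h3
        exact two_fourthree hF
      · exact two_four hF h
    · by_cases h : n = 5 ∧ q = 2
      · obtain ⟨rfl, rfl⟩ := h
        exact two_fivetwo hF
      · exact two_five hF h5 h

end Cfsg.Agent.H934.Two.PSU
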