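import Cfsg.Agent.H934.Two.Tool
import Cfsg.Agent.H605.ZerosE6
import Cfsg.Agent.S1054
import Cfsg.Agent.S1070

/-!
# The rows `E₆(q)`, `²E₆(q)` of S4897
-/

set_option autoImplicit false

namespace Cfsg.Agent.H934.Two.RowE6

open Cfsg Cfsg.Lie Cfsg.Agent.H92.KTools Cfsg.Agent.H436 Cfsg.Agent.H129.CycT
  Cfsg.Agent.H504.Zeros Cfsg.Agent.H504.ZeroTI Cfsg.Agent.H504.TwoZ Cfsg.Agent.H605.ZerosE6

universe u

/-- the torus, the automizer of order 9, the primes of the index and even composite orders -/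
theorem two_of_tor {G : Type u} [Group G] [Finite G] {a n : ℕ} (h : CycExact G a) (ha : 46 ≤ a) (hodd : Odd a)
    (hn : Nat.card G = a * n) (hmod : ((n : ℤ) : ZMod a) = (9 : ℕ)) (C : Finset ℕ)
    (hC : ∀ c ∈ C, HasOrd G c ∧ ¬ c.Prime ∧ 2 ∣ c) (hcard : 10 ≤ n.primeFactors.card + C.card) : Two G := by
  classical
  have hn0 : n ≠ 0 := by
    rintro rfl
    rw [mul_zero] at hn
    exact Nat.card_pos.ne' hn
  -- `n` is prime to `a`
  have hcop : ∀ r : ℕ, r.Prime → r ∣ n → r ∣ a → False := by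
    obtain ⟨T, hT, hc, hz⟩ := h
    have hA := cc_of_cyclic hT hz
    have he := eIdx_of_int (N := (n : ℤ)) hA hc (by omega : 9 < a) (by omega)
      (by rw [hn]; push_cast; ring) hmod
    obtain ⟨m, hem⟩ := exists_m hA
    rw [hc, he] at hem
    intro r hr h1 h2
    have h3 : ((n : ℕ) : ZMod r) = ((9 : ℕ) : ZMod r) := by
      have h4 := congrArg (ZMod.castHom h2 (ZMod r)) hmod
      rw [Int.cast_natCast, map_natCast, map_natCast] at h4
      exact h4
    rw [(ZMod.natCast_eq_zero_iff n r).2 h1] at h3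
    have h5 : r ∣ 9 := (ZMod.natCast_eq_zero_iff 9 r).1 h3.symm
    have h6 : r ∣ 1 := by
      have h7 : r ∣ 9 * m := h5.mul_right m
      have h8 : a - 9 * m = 1 := by omega
      rw [← h8]
      exact Nat.dvd_sub h2 h7
    exact hr.one_lt.ne' (Nat.dvd_one.1 h6)
  have h2a : ¬ 2 ∣ a := by
    intro h2
    obtain ⟨k, hk⟩ := hodd
    omega
  refine two_of_exact_orders h (by omega : 9 < a) (by omega) (N := (n : ℤ)) (by rw [hn]; push_cast; ring) hmod
    (insert 1 (n.primeFactors ∪ C)) ?_ ?_ (fun m hm => by omega) ?_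
  · intro k hk
    rw [Finset.mem_insert, Finset.mem_union] at hk
    rcases hk with rfl | hk | hk
    · exact hasOrd_one G
    · exact hasOrd_prime (Nat.prime_of_mem_primeFactors hk)
        ((Nat.dvd_of_mem_primeFactors hk).trans (by rw [hn]; exact dvd_mul_left _ _))
    · exact (hC k hk).1
  · intro k hk
    rw [Finset.mem_insert, Finset.mem_union] at hk
    rcases hk with rfl | hk | hk
    · exact Or.inl rfl
    · exact Or.inr fun h1 => hcop k (Nat.prime_of_mem_primeFactors hk) (Nat.dvd_of_mem_primeFactors hk) h1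
    · exact Or.inr fun h1 => h2a ((hC k hk).2.2.trans h1)
  · have h1 : 11 ≤ (insert 1 (n.primeFactors ∪ C)).card := by
      rw [Finset.card_insert_of_notMem, Finset.card_union_of_disjoint]
      · omega
      · rw [Finset.disjoint_left]
        intro k hk hk'
        exact (hC k hk').2.1 (Nat.prime_of_mem_primeFactors hk)
      · rw [Finset.mem_union, not_or]
        exact ⟨fun h => Nat.not_prime_one (Nat.prime_of_mem_primeFactors h), fun h => by
          have := (hC 1 h).2.2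
          omega⟩
    omega

/-- three orders divisible by the characteristic -/
theorem three_p {X : Type u} [Group X] {F : Type u} [Field F] [Finite F] {p : ℕ} [hp : Fact p.Prime] [CharP F p]
    (h1 : p ≠ 2 → HasOrd X 4 ∧ HasOrd X (2 * p) ∧ HasOrd X (4 * p))
    (h2 : (2 : F) = 0 → HasOrd X 4 ∧ HasOrd X 6 ∧ HasOrd X 12) :
    ∃ a b c : ℕ, p ∣ a ∧ p ∣ b ∧ p ∣ c ∧ a ≠ b ∧ a ≠ c ∧ b ≠ c ∧ HasOrd X a ∧ HasOrd X b ∧ HasOrd X c := by
  by_cases hp2 : p = 2
  · subst hp2
    obtain ⟨a, b, c⟩ := h2 (by exact_mod_cast CharP.cast_eq_zero F 2)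
    exact ⟨4, 6, 12, by norm_num, by norm_num, by norm_num, by norm_num, by norm_num, by norm_num, a, b, c⟩
  · obtain ⟨-, b, c⟩ := h1 hp2
    have h3 := hp.out.two_le
    exact ⟨p, 2 * p, 4 * p, dvd_rfl, dvd_mul_left _ _, dvd_mul_left _ _, by omega, by omega, by omega,
      b.of_dvd (dvd_mul_left _ _) (by omega), b, c⟩

/-- **The row `E₆`.** -/
theorem two_e6 {F : Type} [Field F] [Fintype F] : Two (chevE6.group F) := by
  obtain ⟨q, hq⟩ : ∃ q, Fintype.card F = q := ⟨_, rfl⟩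
  have hq2 : 2 ≤ q := by rw [← hq]; exact Fintype.one_lt_card
  set N := q ^ 6 + q ^ 3 + 1 with hNdef
  have hN : (N : ℤ) = 1 + (q : ℤ) ^ 3 + (q : ℤ) ^ 6 := by rw [hNdef]; push_cast; ring
  have hE := exact_E6_9 hq hN
  set d := Nat.gcd 3 (q - 1) with hd
  have hd3 : d ∣ 3 := Nat.gcd_dvd_left _ _
  have hd0 : 0 < d := Nat.pos_of_dvd_of_pos hd3 (by norm_num)
  have hdN : d ∣ N := by
    have h1 : (q : ZMod d) = 1 := by
      have h7 := (ZMod.natCast_eq_zero_iff (q - 1) d).2 (Nat.gcd_dvd_right _ _)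
      rw [Nat.cast_sub (by omega), Nat.cast_one] at h7
      exact sub_eq_zero.1 h7
    rw [← ZMod.natCast_eq_zero_iff, hNdef]
    push_cast
    rw [h1]
    have h3 := (ZMod.natCast_eq_zero_iff 3 d).2 hd3
    push_cast at h3
    linear_combination h3
  obtain ⟨a, ha⟩ := hdN
  have hNa : N / d = a := by rw [ha, Nat.mul_div_cancel_left _ hd0]
  rw [hNa] at hE
  have hN73 : 73 ≤ N := by
    have h1 : 2 ^ 6 ≤ q ^ 6 := Nat.pow_le_pow_left hq2 6
    have h2 : 2 ^ 3 ≤ q ^ 3 := Nat.pow_le_pow_left hq2 3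
    omega
  have hdle : d ≤ 3 := Nat.le_of_dvd (by norm_num) hd3
  have ha46 : 46 ≤ a := by
    by_cases h2 : q = 2
    · subst h2
      have : d = 1 := by rw [hd]; decide
      rw [this, one_mul] at ha
      omega
    · have h1 : 3 ^ 6 ≤ q ^ 6 := Nat.pow_le_pow_left (by omega) 6
      have h3 : N ≤ 3 * a := by rw [ha]; exact Nat.mul_le_mul_right _ hdle
      omega
  have hodd : Odd a := by
    have h1 : Odd N := by
      rw [hNdef]
      rcases q.even_or_odd with h | h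
      · exact ((h.pow_of_ne_zero (by norm_num)).add (h.pow_of_ne_zero (by norm_num))).add_one
      · exact ((h.pow).add_odd (h.pow)).add_one
    rw [ha] at h1
    exact (Nat.odd_mul.1 h1).2
  have hcard : Nat.card ↥(chevE6.group F) = a * idxE q := by
    have h1 := Cfsg.Agent.S1063.result (F := F) hq
    have h2 : q ^ 9 - 1 = (q ^ 3 - 1) * (d * a) := by
      rw [← ha]
      zify [Nat.one_le_pow 9 q (by omega), Nat.one_le_pow 3 q (by omega)]
      rw [hN]
      ring
    rw [← hd, h2] at h1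
    apply Nat.eq_of_mul_eq_mul_left hd0
    rw [h1]
    unfold idxE
    ring
  have hn0 : idxE q ≠ 0 := by
    intro h
    rw [h, mul_zero] at hcard
    exact Nat.card_pos.ne' hcard
  obtain ⟨C, hC3, hC⟩ := three_even (X := ↥(chevE6.group F)) (F := F)
    (fun p hp hc h => Cfsg.Agent.H92.ExcOrd.e6_odd (F := F) p h) (fun h => Cfsg.Agent.H92.ExcOrd.e6_two h)
  have h7 : 7 ≤ (idxE q).primeFactors.card := by
    have hm : q * (q ^ 2 - 1) ∣ idxE q := by
      refine Nat.mul_dvd_mul (dvd_pow_self q (by norm_num)) ?_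
      simp only [mul_assoc]
      exact dvd_mul_right _ _
    refine card_primes hq2 hn0 hm {3, 4, 5, 8, 12} (by decide) (by simp) ?_
    have key : ∀ e r k, e ∣ k → q ^ k - 1 ∣ idxE q → Prim q e r → r ∣ idxE q :=
      fun e r k hek hdv hr => (hr.dvd hek).trans hdv
    have d5 : q ^ 5 - 1 ∣ idxE q := ⟨q ^ 36 * ((q ^ 2 - 1) * (q ^ 6 - 1) * (q ^ 8 - 1) * (q ^ 12 - 1) * (q ^ 3 - 1)),
      by unfold idxE; ring⟩
    have d8 : q ^ 8 - 1 ∣ idxE q := ⟨q ^ 36 * ((q ^ 2 - 1) * (q ^ 5 - 1) * (q ^ 6 - 1) * (q ^ 12 - 1) * (q ^ 3 - 1)),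
      by unfold idxE; ring⟩
    have d12 : q ^ 12 - 1 ∣ idxE q := ⟨q ^ 36 * ((q ^ 2 - 1) * (q ^ 5 - 1) * (q ^ 6 - 1) * (q ^ 8 - 1) * (q ^ 3 - 1)),
      by unfold idxE; ring⟩
    simp only [Finset.mem_insert, Finset.mem_singleton, forall_eq_or_imp, forall_eq]
    exact ⟨fun r => key 3 r 12 (by norm_num) d12, fun r => key 4 r 12 (by norm_num) d12,
      fun r => key 5 r 5 (by norm_num) d5, fun r => key 8 r 8 (by norm_num) d8,
      fun r => key 12 r 12 (by norm_num) d12⟩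
  exact two_of_tor hE ha46 hodd hcard (idxE_mod (by omega) ⟨d, by rw [ha, mul_comm]⟩ hN) C hC (by omega)

/-- `Row2` for `E₆(q)` -/
theorem row2_e6 {F : Type} [Field F] [Fintype F] : Row2 ↥(chevE6.group F) := by
  obtain ⟨p, hpc⟩ := CharP.exists F
  have hpr : p.Prime := CharP.char_is_prime F p
  have : Fact p.Prime := ⟨hpr⟩
  obtain ⟨hs, hna⟩ := S1054.result (F := F) chevE6 (by simp)
  have hL : IsLieTypeChar p ↥(chevE6.group F) :=
    Or.inr (Or.inr (Or.inr (Or.inr (Or.inr (Or.inr (Or.inl ⟨F, inferInstance, inferInstance, hpc,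
      Or.inr (Or.inr (Or.inl ⟨MulEquiv.refl _⟩))⟩))))))
  obtain ⟨a, b, c, ha, hb, hc, hab, hac, hbc, Ha, Hb, Hc⟩ := three_p (X := ↥(chevE6.group F)) (F := F) (p := p)
    (fun h => Cfsg.Agent.H92.ExcOrd.e6_odd (F := F) p h) (fun h => Cfsg.Agent.H92.ExcOrd.e6_two h)
  exact row2_of_three hpr hna hL ha hb hc hab hac hbc Ha Hb Hc

/-- **The row `E₆`.** -/
theorem rowT_e6 {F : Type} [Field F] [Fintype F] : RowT ↥(chevE6.group F) := ⟨Or.inl two_e6, row2_e6⟩

end Cfsg.Agent.H934.Two.RowE6
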