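import Cfsg.Agent.H934.Two.Tool
import Cfsg.Agent.H665.DefZero

/-!
# Two CC-subgroups and the Steinberg character

* `dvd_of_notMem_NV` : a character vanishing on `A#` has degree divisible by `|A|`.
* `two_of_pair_st` : two CC-subgroups `A`, `B` with `e + m + e' + m' < k + 2` and the Steinberg character.
-/

set_option autoImplicit false

open scoped ComplexConjugate

namespace Cfsg.Agent.H934.Two

open Cfsg Cfsg.Agent.Characters.Core Cfsg.Agent.H504.ZeroTI Cfsg.Agent.H504.Zeros Cfsg.Agent.H504.TwoZ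
open Cfsg.Agent.H129.CycT

universe u

variable {G : Type u} [Group G]

theorem dvd_of_notMem_NV [Finite G] {A : Subgroup G} {χ : IrrCharacter G} (h : χ ∉ NV A) {d : ℕ}
    (hd : (χ : G → ℂ) 1 = (d : ℂ)) : Nat.card A ∣ d := by
  classical
  have := Fintype.ofFinite A
  obtain ⟨m, hm⟩ := Cfsg.Agent.H665.DefZero.exists_sum_subgroup (isIrr_isCharacter χ.2) A
  have h1 : ∑ z : A, conj ((χ : G → ℂ) z) = (d : ℂ) := by
    rw [Finset.sum_eq_single (1 : A)]
    · rw [Subgroup.coe_one, hd, Complex.conj_natCast]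
    · intro b _ hb
      have h2 : (χ : G → ℂ) b = 0 := by
        by_contra h3
        exact h ⟨b, b.2, fun h4 => hb (Subtype.ext h4), h3⟩
      rw [h2, map_zero]
    · intro h2
      exact absurd (Finset.mem_univ _) h2
  rw [h1] at hm
  exact ⟨m, by exact_mod_cast hm⟩

theorem one_mem_NV [Finite G] {A : Subgroup G} (hA : ∃ a ∈ A, a ≠ 1) :
    (⟨fun _ => 1, isIrr_one⟩ : IrrCharacter G) ∈ NV A := by
  obtain ⟨a, ha, ha1⟩ := hA
  exact ⟨a, ha, ha1, one_ne_zero⟩

/-- union of non-conjugate sets with non-conjugate elements -/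
theorem nonConj_union [DecidableEq G] {s t : Finset G} (hs : NonConj s) (ht : NonConj t)
    (h : ∀ g ∈ s, ∀ k ∈ t, ¬ IsConj g k) : NonConj (s ∪ t) ∧ (s ∪ t).card = s.card + t.card := by
  constructor
  · intro g hg k hk hc
    rcases Finset.mem_union.1 hg with hg | hg <;> rcases Finset.mem_union.1 hk with hk | hk
    · exact hs g hg k hk hc
    · exact absurd hc (h g hg k hk)
    · exact absurd hc.symm (h k hk g hg)
    · exact ht g hg k hk hc
  · refine Finset.card_union_of_disjoint (Finset.disjoint_left.2 fun g hg hg' => ?_)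
    exact h g hg g hg' (IsConj.refl g)

/-- **Two CC-subgroups and the Steinberg character.** -/
theorem two_of_pair_st [Finite G] {p : ℕ} [hp : Fact p.Prime] (hst : Cfsg.Agent.H167.StChar.HasSt p G)
    (s : Finset G) (hs : NonConj s) (hps : ∀ g ∈ s, p ∣ orderOf g) (hs3 : 3 ≤ s.card)
    {A B : Subgroup G} (hA : CC A) (hB : CC B) {a b e m e' m' k : ℕ} (ha : Nat.card A = a)
    (hb : Nat.card B = b) (he : eIdx A = e)
    (he' : eIdx B = e') (hm : 2 ≤ m) (hm2 : 2 ≤ m') (hea : a = e * m + 1)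
    (heb : b = e' * m' + 1) (hpa : p.Coprime a) (hpb : p.Coprime b) (hab : a.Coprime b)
    (hk : k ≤ Nat.card (ConjClasses G)) (h : e + m + (e' + m') < k + 2)
    (hst1 : (Nat.card G).factorization p ≠ 0) : Two G := by
  classical
  have hfin := finite_irr (G := G)
  obtain ⟨χ, hχ, h1, -⟩ := hst
  have h2 := charDegree_cast_irr (⟨χ, hχ⟩ : IrrCharacter G)
  have h3 : charDegree (((⟨χ, hχ⟩ : IrrCharacter G)) : G → ℂ) =
      p ^ (Nat.card G).factorization p := by
    have h4 : (charDegree (((⟨χ, hχ⟩ : IrrCharacter G)) : G → ℂ) : ℂ) =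
      ((p ^ (Nat.card G).factorization p : ℕ) : ℂ) := by
      rw [h2]
      exact h1
    exact_mod_cast h4
  have hstA : (⟨χ, hχ⟩ : IrrCharacter G) ∈ NV A := by
    by_contra hcon
    have h5 := dvd_of_notMem_NV hcon h1
    rw [ha] at h5
    have h6 : a.Coprime (p ^ (Nat.card G).factorization p) := Nat.Coprime.pow_right _ hpa.symm
    have h7 := Nat.eq_one_of_dvd_coprimes h6 dvd_rfl h5
    have h8 : 0 < Nat.card (Subgroup.normalizer (A : Set G)) := Nat.card_pos
    have h9 := eIdx_mul A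
    rw [he] at h9
    rcases Nat.eq_zero_or_pos e with h10 | h10
    · rw [h10, mul_zero] at h9; omega
    · have : 0 < e * m := Nat.mul_pos h10 (by omega)
      omega
  have hstB : (⟨χ, hχ⟩ : IrrCharacter G) ∈ NV B := by
    by_contra hcon
    have h5 := dvd_of_notMem_NV hcon h1
    rw [hb] at h5
    have h6 : b.Coprime (p ^ (Nat.card G).factorization p) := Nat.Coprime.pow_right _ hpb.symm
    have h7 := Nat.eq_one_of_dvd_coprimes h6 dvd_rfl h5
    have h8 : 0 < Nat.card (Subgroup.normalizer (B : Set G)) := Nat.card_pos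
    have h9 := eIdx_mul B
    rw [he'] at h9
    rcases Nat.eq_zero_or_pos e' with h10 | h10
    · rw [h10, mul_zero] at h9; omega
    · have : 0 < e' * m' := Nat.mul_pos h10 (by omega)
      omega
  obtain ⟨sA, hsA, hsAm, hsAA⟩ := exists_reps hA (m := m) (by rw [he, ha]; exact hea)
  obtain ⟨sB, hsB, hsBm, hsBB⟩ := exists_reps hB (m := m') (by rw [he', hb]; exact heb)
  have hnA : ∃ x ∈ A, x ≠ 1 := by
    obtain ⟨x, hx⟩ := Finset.card_pos.1 (show 0 < sA.card by omega)
    exact ⟨x, hsAA x hx⟩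
  have hnB : ∃ x ∈ B, x ≠ 1 := by
    obtain ⟨x, hx⟩ := Finset.card_pos.1 (show 0 < sB.card by omega)
    exact ⟨x, hsBB x hx⟩
  have honeA := one_mem_NV (G := G) hnA
  have honeB := one_mem_NV (G := G) hnB
  have hne : (⟨χ, hχ⟩ : IrrCharacter G) ≠ ⟨fun _ => 1, isIrr_one⟩ := by
    intro hcon
    have h5 : χ = fun _ => 1 := congrArg Subtype.val hcon
    have h1' : (1 : ℂ) = ((p ^ (Nat.card G).factorization p : ℕ) : ℂ) := by rw [← h1, h5]
    have h6 : p ^ (Nat.card G).factorization p = 1 := by exact_mod_cast h1'.symm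
    exact hst1 ((Nat.pow_eq_one.1 h6).resolve_left hp.out.one_lt.ne')
  have hcA := hA.ncard_NV_le (m := m) hm (by rw [he, ha]; exact hea)
  have hcB := hB.ncard_NV_le (m := m') hm2 (by rw [he', hb]; exact heb)
  rw [he] at hcA
  rw [he'] at hcB
  have hinter : 2 ≤ (NV A ∩ NV B).ncard := by
    rw [← Set.ncard_pair hne]
    refine Set.ncard_le_ncard ?_ (Set.toFinite _)
    intro ψ hψ
    rcases hψ with rfl | hψ
    · exact ⟨hstA, hstB⟩
    · rw [Set.mem_singleton_iff] at hψ
      rw [hψ]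
      exact ⟨honeA, honeB⟩
  have hunion := Set.ncard_union_add_ncard_inter (NV A) (NV B) (Set.toFinite _) (Set.toFinite _)
  have htot : Nat.card (ConjClasses G) = (Set.univ : Set (IrrCharacter G)).ncard := by
    rw [Set.ncard_univ, card_classes_eq]
  have hex : ∃ ψ : IrrCharacter G, ψ ∉ NV A ∪ NV B := by
    by_contra hcon
    push Not at hcon
    have h5 : (Set.univ : Set (IrrCharacter G)) ⊆ NV A ∪ NV B := fun ψ _ => hcon ψ
    have h6 := Set.ncard_le_ncard h5 (Set.toFinite _)
    omega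
  obtain ⟨ψ, hψ⟩ := hex
  have hψA : ψ ∉ NV A := fun h => hψ (Or.inl h)
  have hψB : ψ ∉ NV B := fun h => hψ (Or.inr h)
  obtain ⟨hnc, hncc⟩ := nonConj_union hsA hsB fun g hg k hk hc => by
    have h4 : orderOf g = orderOf k := by
      obtain ⟨c, rfl⟩ := isConj_iff.1 hc
      exact ((MulAut.conj c).orderOf_eq g).symm
    have h5 : orderOf g ∣ a := by
      have := orderOf_dvd_natCard (⟨g, (hsAA g hg).1⟩ : A)
      rwa [← Subgroup.orderOf_coe, ha] at this
    have h6 : orderOf k ∣ b := by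
      have := orderOf_dvd_natCard (⟨k, (hsBB k hk).1⟩ : B)
      rwa [← Subgroup.orderOf_coe, hb] at this
    rw [← h4] at h6
    have h7 := Nat.eq_one_of_dvd_coprimes hab h5 h6
    exact (hsAA g hg).2 (orderOf_eq_one_iff.1 h7)
  refine two_of_zeros (χ := ⟨χ, hχ⟩) (ψ := ψ) ?_ s (sA ∪ sB) hs hnc (fun g hg => ?_) (fun g hg => ?_) hs3 (by omega)
  · rintro rfl
    exact hψA hstA
  · refine Cfsg.Agent.H713.irr_zero_of_singular ?_ (hps g hg)
    rw [h3, hp.out.factorization_pow, Finsupp.single_eq_same]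
  · rcases Finset.mem_union.1 hg with hg | hg
    · exact apply_eq_zero_of_compl hψA (hsAA g hg).1 (hsAA g hg).2
    · exact apply_eq_zero_of_compl hψB (hsBB g hg).1 (hsBB g hg).2

end Cfsg.Agent.H934.Two
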