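import Cfsg.Agent.H934.Two.RowE6
import Cfsg.Agent.H934.Two.Pair

/-!
# The row `²E₆(q)` of S4897
-/

set_option autoImplicit false

namespace Cfsg.Agent.H934.Two.RowTE6

open Cfsg Cfsg.Lie Cfsg.Agent.H92.KTools Cfsg.Agent.H436 Cfsg.Agent.H129.CycT Cfsg.Agent.H129
  Cfsg.Agent.H504.Zeros Cfsg.Agent.H504.ZeroTI Cfsg.Agent.H504.TwoZ Cfsg.Agent.H605.ZerosE6
  Cfsg.Agent.H934.Two.RowE6 Cfsg.Agent.H129.WData Cfsg.Agent.H129.RealT

universe u

theorem lieType {K : Type} [Field K] [Fintype K] {p q : ℕ} [CharP K p] (hq : IsPrimePow q)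
    (hK : Fintype.card K = q ^ 2) : IsLieTypeChar p ↥(twistedE6 K q) :=
  Or.inr (Or.inr (Or.inr (Or.inr (Or.inr (Or.inr (Or.inr (Or.inl ⟨K, inferInstance, inferInstance, inferInstance, q, hq,
    Or.inl ⟨hK, ⟨MulEquiv.refl _⟩⟩⟩)))))))

/-- `Row2` for `²E₆(q)` -/
theorem row2_te6 {K : Type} [Field K] [Fintype K] {q : ℕ} (hq : IsPrimePow q) (hK : Fintype.card K = q ^ 2) :
    Row2 ↥(twistedE6 K q) := by
  obtain ⟨p, hpc⟩ := CharP.exists K
  have hpr : p.Prime := CharP.char_is_prime K p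
  have : Fact p.Prime := ⟨hpr⟩
  obtain ⟨hs, hna⟩ := S1070.result (K := K) hq hK
  have hF' : Nat.card K = q ^ 2 := by rw [Nat.card_eq_fintype_card, hK]
  obtain ⟨a, b, c, ha, hb, hc, hab, hac, hbc, Ha, Hb, Hc⟩ := three_p (X := ↥(twistedE6 K q)) (F := K) (p := p)
    (fun h => Cfsg.Agent.H868.KTwE6.ords_odd hq hF' p h) (fun h => Cfsg.Agent.H868.KTwE6.ords_two hq hF' h)
  exact row2_of_three hpr hna (lieType hq hK) ha hb hc hab hac hbc Ha Hb Hc

theorem factorization_eq_one {n p : ℕ} (hp : p.Prime) (hn : n ≠ 0) (h1 : p ∣ n) (h2 : ¬ p ^ 2 ∣ n) :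
    n.factorization p = 1 := by
  have h3 := (hp.dvd_iff_one_le_factorization hn).1 h1
  have h4 : ¬ 2 ≤ n.factorization p := fun h => h2 ((hp.pow_dvd_iff_le_factorization hn).2 h)
  omega

/-- the element of order 17 of `²E₆(2)` is self-centralizing -/
theorem cc_seventeen {K : Type} [Field K] [Fintype K] (hK : Fintype.card K = 2 ^ 2)
    (hcard : Nat.card ↥(twistedE6 K 2) = 19 * idxT 2) :
    ∃ B : Subgroup ↥(twistedE6 K 2), CC B ∧ Nat.card B = 17 := by
  have h17 : (17 : ℕ).Prime := by norm_num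
  have : Fact (Nat.Prime 17) := ⟨h17⟩
  have hM : ((51 : ℕ) : ℤ) = -1 + ((2 : ℕ) : ℤ) ^ 2 - ((2 : ℕ) : ℤ) ^ 4 + ((2 : ℕ) : ℤ) ^ 6 := by norm_num
  obtain ⟨T, h1, h3, h4, h5, -⟩ := TwT.flip_T (K := K) Nat.prime_two.isPrimePow hK DataTE6e.hA DataTE6e.chainOK
    DataTE6e.hd_pi DataTE6e.cycOK DataTE6e.rootOK DataTE6e.chain2OK DataTE6e.hd2_eq (N := 51) (by rw [DataTE6e.fN_eq, hM])
    (coprime_of_neg (a := ((2 : ℕ) : ℤ) - ((2 : ℕ) : ℤ) ^ 3 + ((2 : ℕ) : ℤ) ^ 5) (by norm_num))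
  have e3 : Nat.gcd 3 (2 + 1) = 3 := by decide
  rw [e3] at h4
  have h6 : 17 ∣ Nat.card T := by
    have h7 : 17 ∣ 3 * Nat.card T := dvd_trans (by norm_num) h4
    exact (Nat.Coprime.dvd_mul_left (by norm_num)).1 h7
  have h7 : Nat.card T = 17 ∨ Nat.card T = 51 := by
    obtain ⟨k, hk⟩ := h6
    have h8 : k ∣ 3 := by
      rw [hk, show (51 : ℕ) = 17 * 3 by norm_num] at h3
      exact Nat.dvd_of_mul_dvd_mul_left (by norm_num) h3
    rcases (Nat.dvd_prime Nat.prime_three).1 h8 with h9 | h9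
    · left; rw [hk, h9]
    · right; rw [hk, h9]
  have hcent := h5 17 h17 (not_dvd_W_E6 h17 (by norm_num) (by norm_num) (by norm_num)) (fun s hs => by
    rcases DataTE6e.dvd_of_G (x := ((2 : ℕ) : ℤ)) (r := ((17 : ℕ) : ℤ)) (by norm_num) s hs with h | h
    · exact not_one h17 h
    · exact not_prime h17 Nat.prime_two (by norm_num) h)
  obtain ⟨⟨x, hxT⟩, hx⟩ := exists_prime_orderOf_dvd_card' (G := ↥T) 17 h6
  rw [Subgroup.orderOf_mk] at hx
  have hC : Subgroup.centralizer {x} = T :=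
    le_antisymm (hcent x hxT hx) (le_centralizer_of_cyclic h1 hxT)
  have hn0 : Nat.card ↥(twistedE6 K 2) ≠ 0 := Nat.card_pos.ne'
  have hval : Nat.card ↥(twistedE6 K 2) = 76532479683774853939200 := by
    rw [hcard]; unfold idxT; norm_num
  have hfac : (Nat.card ↥(twistedE6 K 2)).factorization 17 = 1 :=
    factorization_eq_one h17 hn0 (by rw [hval]; norm_num) (by rw [hval]; norm_num)
  have h17c : Nat.card T = 17 := by
    rcases h7 with h7 | h7
    · exact h7
    exfalso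
    have h8 := Cfsg.Agent.H713.card_fus_mul hfac hx (c := 3) (by rw [hC, h7])
    rw [hval] at h8
    have h9 := Cfsg.Agent.H713.Count.card_fus_mul_card_sing (p := 17) (x := x) (by rw [← hx]; exact pow_orderOf_eq_one x)
    have h10 : (Cfsg.Agent.H713.Count.fus (p := 17) x).card ∣ 16 := ⟨_, h9.symm⟩
    have h11 : (Cfsg.Agent.H713.Count.fus (p := 17) x).card ∈ Nat.divisors 16 :=
      Nat.mem_divisors.2 ⟨h10, by norm_num⟩
    have h12 : Nat.divisors 16 = {1, 2, 4, 8, 16} := by decide +kernel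
    rw [h12] at h11
    simp only [Finset.mem_insert, Finset.mem_singleton] at h11
    rcases h11 with h | h | h | h | h <;> rw [h] at h8 <;> revert h8 <;> decide
  exact ⟨Subgroup.zpowers x, cc_of_prime h17 hx (by rw [hC, h17c]), by rw [Nat.card_zpowers, hx]⟩

/-- sixteen orders prime to `17` and `19` -/
def S16 : Finset ℕ := {1, 2, 3, 4, 5, 6, 7, 10, 11, 12, 13, 14, 15, 20, 21, 35}

theorem two_te6_two {K : Type} [Field K] [Fintype K] (hK : Fintype.card K = 4) : Two (twistedE6 K 2) := by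
  classical
  have hK' : Fintype.card K = 2 ^ 2 := by rw [hK]; norm_num
  have hF' : Nat.card K = 2 ^ 2 := by rw [Nat.card_eq_fintype_card, hK']
  have hE := exact_tE6_18 (F := K) (q := 2) Nat.prime_two.isPrimePow hK' (N := 57) (by norm_num)
  have e19 : 57 / Nat.gcd 3 (2 + 1) = 19 := by decide
  rw [e19] at hE
  have hcard : Nat.card ↥(twistedE6 K 2) = 19 * idxT 2 := by
    have h1 := Cfsg.Agent.S1066.result (K := K) (q := 2) Nat.prime_two.isPrimePow hK'
    have e3 : Nat.gcd 3 (2 + 1) = 3 := by decide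
    rw [e3] at h1
    unfold idxT
    norm_num at h1 ⊢
    omega
  have h2 : (2 : K) = 0 := by
    have h1 : ((Fintype.card K : ℕ) : K) = 0 := FiniteField.cast_card_eq_zero K
    rw [hK] at h1
    have h3 : (2 : K) ^ 2 = 0 := by
      have h4 : ((4 : ℕ) : K) = (2 : K) ^ 2 := by norm_num
      rw [← h4, h1]
    exact pow_eq_zero_iff (two_ne_zero) |>.1 h3
  have hch : CharP K 2 := by
    obtain ⟨p, hp⟩ := CharP.exists K
    have hpr : p.Prime := CharP.char_is_prime K p
    have h3 : p ∣ 2 := by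
      rw [← CharP.cast_eq_zero_iff K p]
      exact_mod_cast h2
    rw [← (Nat.prime_dvd_prime_iff_eq hpr Nat.prime_two).1 h3]
    exact hp
  obtain ⟨o4, o6, o12⟩ := Cfsg.Agent.H868.KTwE6.ords_two Nat.prime_two.isPrimePow hF' h2
  have s2 := hasOrd_prime (G := Matrix.SpecialLinearGroup (Fin 2) K) Nat.prime_two (by rw [card_sl_two hK]; norm_num)
  have s3 := hasOrd_prime (G := Matrix.SpecialLinearGroup (Fin 2) K) Nat.prime_three (by rw [card_sl_two hK]; norm_num)
  have s5 := hasOrd_prime (G := Matrix.SpecialLinearGroup (Fin 2) K) Nat.prime_five (by rw [card_sl_two hK]; norm_num)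
  have t3 := hasOrd_prime (G := Matrix.SpecialLinearGroup (Fin 3) (ZMod 2)) Nat.prime_three (by rw [card_sl_three]; norm_num)
  have t7 := hasOrd_prime (G := Matrix.SpecialLinearGroup (Fin 3) (ZMod 2)) (by norm_num : Nat.Prime 7)
    (by rw [card_sl_three]; norm_num)
  have t4 : HasOrd (Matrix.SpecialLinearGroup (Fin 3) (ZMod 2)) 4 := exists_four
  have o20 : HasOrd (twistedE6 K 2) 20 := hasOrd_mul hK s5 t4 (by norm_num)
  have pr : ∀ p : ℕ, p.Prime → p ∣ 19 * idxT 2 → HasOrd (twistedE6 K 2) p := fun p hp hd =>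
    hasOrd_prime hp (by rw [hcard]; exact hd)
  have hS : ∀ n ∈ S16, HasOrd (twistedE6 K 2) n := by
    simp only [S16, Finset.mem_insert, Finset.mem_singleton, forall_eq_or_imp, forall_eq]
    exact ⟨hasOrd_one _, pr 2 (by norm_num) (by unfold idxT; norm_num), pr 3 (by norm_num) (by unfold idxT; norm_num),
      o4, pr 5 (by norm_num) (by unfold idxT; norm_num), o6, pr 7 (by norm_num) (by unfold idxT; norm_num),
      o20.of_dvd (by norm_num) (by norm_num), pr 11 (by norm_num) (by unfold idxT; norm_num), o12,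
      pr 13 (by norm_num) (by unfold idxT; norm_num), hasOrd_mul hK s2 t7 (by norm_num),
      hasOrd_mul hK s5 t3 (by norm_num), o20,
      hasOrd_mul hK s3 t7 (by norm_num), hasOrd_mul hK s5 t7 (by norm_num)⟩
  -- the tori
  obtain ⟨A, hA, hAc⟩ : ∃ A : Subgroup ↥(twistedE6 K 2), CC A ∧ Nat.card A = 19 := by
    obtain ⟨T, hT, hc, hz⟩ := hE
    exact ⟨T, cc_of_cyclic hT hz, hc⟩
  obtain ⟨B, hB, hBc⟩ := cc_seventeen hK' hcard
  have hval : Nat.card ↥(twistedE6 K 2) = 76532479683774853939200 := by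
    rw [hcard]; unfold idxT; norm_num
  have heA : eIdx A = 9 := eIdx_of_int hA hAc (by norm_num) (by norm_num) (N := 4028025246514465996800)
    (by rw [hval]; norm_num) (by decide +kernel)
  have heB : eIdx B = 8 := eIdx_of_int hB hBc (by norm_num) (by norm_num) (N := 4501910569633814937600)
    (by rw [hval]; norm_num) (by decide +kernel)
  obtain ⟨tS, htS, htSc, htSo⟩ := exists_of_orders (G := ↥(twistedE6 K 2)) S16 hS
  obtain ⟨sB, hsB, hsBm, hsBB⟩ := exists_reps hB (m := 2) (by rw [heB, hBc])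
  have hordB : ∀ g ∈ sB, orderOf g = 17 := by
    intro g hg
    have h5 : orderOf g ∣ 17 := by
      have := orderOf_dvd_natCard (⟨g, (hsBB g hg).1⟩ : B)
      rwa [← Subgroup.orderOf_coe, hBc] at this
    rcases (Nat.dvd_prime (by norm_num)).1 h5 with h | h
    · exact absurd (orderOf_eq_one_iff.1 h) (hsBB g hg).2
    · exact h
  have ho : ∀ g k : ↥(twistedE6 K 2), IsConj g k → orderOf g = orderOf k := by
    intro g k h
    obtain ⟨c, rfl⟩ := isConj_iff.1 h
    exact ((MulAut.conj c).orderOf_eq g).symm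
  obtain ⟨hnc, hncc⟩ := nonConj_union htS hsB fun g hg k hk hc => by
    have h1 := ho _ _ hc
    rw [hordB k hk] at h1
    have h2 := htSo g hg
    rw [h1] at h2
    revert h2
    decide
  have hS16 : S16.card = 16 := by decide
  have hk := m_add_card_le hA (m := 2) (by rw [heA, hAc]) (tS ∪ sB) hnc fun g hg a ha ha1 => by
    refine not_conj_of_order hAc ha ha1 ?_
    rcases Finset.mem_union.1 hg with hg | hg
    · have h2 := htSo g hg
      have h3 : ∀ n ∈ S16, n = 1 ∨ ¬ n ∣ 19 := by decide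
      exact h3 _ h2
    · rw [hordB g hg]
      right
      norm_num
  rw [hncc, htSc, hsBm, hS16] at hk
  obtain ⟨s, hs, hs3, hps⟩ := exists_three_orders (G := ↥(twistedE6 K 2)) (p := 2) (a := 4) (b := 6) (c := 12)
    (by norm_num) (by norm_num) (by norm_num) (by norm_num) (by norm_num) (by norm_num) o4 o6 o12
  have hsim := (S1070.result (K := K) Nat.prime_two.isPrimePow hK').1
  refine two_of_pair_st (p := 2) (Cfsg.Agent.H167.StChar.hasSt_of_lie Nat.prime_two
    (lieType (K := K) (q := 2) Nat.prime_two.isPrimePow hK')) s hs hps hs3 hA hB hAc hBc heA heB (m := 2) (m' := 2)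
    le_rfl le_rfl (by norm_num) (by norm_num) (by norm_num) (by norm_num) (by norm_num) hk (by norm_num) ?_
  have h1 := (Nat.prime_two.dvd_iff_one_le_factorization (n := Nat.card ↥(twistedE6 K 2)) Nat.card_pos.ne').1
    (by rw [hval]; norm_num)
  omega

/-- **The row `²E₆`.** -/
theorem two_te6 {K : Type} [Field K] [Fintype K] {q : ℕ} (hq : IsPrimePow q) (hK : Fintype.card K = q ^ 2) :
    Two (twistedE6 K q) := by
  have hq2 : 2 ≤ q := hq.two_le
  by_cases h2 : q = 2
  · subst h2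
    exact two_te6_two (by rw [hK]; norm_num)
  have hq3 : 3 ≤ q := by omega
  have hF' : Nat.card K = q ^ 2 := by rw [Nat.card_eq_fintype_card, hK]
  have hle : q ^ 3 ≤ q ^ 6 + 1 := by
    have := Nat.pow_le_pow_right (show 0 < q by omega) (show 3 ≤ 6 by norm_num)
    omega
  set N := q ^ 6 + 1 - q ^ 3 with hNdef
  have hN : (N : ℤ) = 1 - (q : ℤ) ^ 3 + (q : ℤ) ^ 6 := by
    rw [hNdef, Nat.cast_sub hle]; push_cast; ring
  have hE := exact_tE6_18 hq hK hN
  set d := Nat.gcd 3 (q + 1) with hd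
  have hd3 : d ∣ 3 := Nat.gcd_dvd_left _ _
  have hd0 : 0 < d := Nat.pos_of_dvd_of_pos hd3 (by norm_num)
  have hdN : d ∣ N := by
    have h1 : (q : ZMod d) = -1 := by
      have h7 := (ZMod.natCast_eq_zero_iff (q + 1) d).2 (Nat.gcd_dvd_right _ _)
      push_cast at h7
      linear_combination h7
    rw [← ZMod.natCast_eq_zero_iff]
    have h3 : ((N : ℤ) : ZMod d) = 0 := by
      rw [hN]
      push_cast
      rw [h1]
      have h3 := (ZMod.natCast_eq_zero_iff 3 d).2 hd3
      push_cast at h3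
      linear_combination h3
    exact_mod_cast h3
  obtain ⟨a, ha⟩ := hdN
  have hNa : N / d = a := by rw [ha, Nat.mul_div_cancel_left _ hd0]
  rw [hNa] at hE
  have hN73 : 138 ≤ N := by
    have h1 : 3 ^ 3 ≤ q ^ 3 := Nat.pow_le_pow_left hq3 3
    have h3 : q ^ 6 = q ^ 3 * q ^ 3 := by ring
    have h4 : 27 * q ^ 3 ≤ q ^ 3 * q ^ 3 := Nat.mul_le_mul_right _ h1
    omega
  have hdle : d ≤ 3 := Nat.le_of_dvd (by norm_num) hd3
  have ha46 : 46 ≤ a := by
    have h3 : N ≤ 3 * a := by rw [ha]; exact Nat.mul_le_mul_right _ hdle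
    omega
  have hodd : Odd a := by
    have h1 : Odd (N : ℤ) := by
      have e : (N : ℤ) = (q : ℤ) ^ 3 * ((q : ℤ) ^ 3 - 1) + 1 := by rw [hN]; ring
      rw [e]
      have h2 : Even ((q : ℤ) ^ 3 * ((q : ℤ) ^ 3 - 1)) := by
        rcases Int.even_or_odd ((q : ℤ) ^ 3) with h | h
        · exact h.mul_right _
        · exact (h.sub_odd odd_one).mul_left _
      exact h2.add_one
    have h1' : Odd N := by exact_mod_cast h1
    rw [ha] at h1'
    exact (Nat.odd_mul.1 h1').2
  have hcard : Nat.card ↥(twistedE6 K q) = a * idxT q := by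
    have h1 := Cfsg.Agent.S1066.result (K := K) hq hK
    have h2 : q ^ 9 + 1 = (q ^ 3 + 1) * (d * a) := by
      rw [← ha]
      zify
      rw [hN]
      ring
    rw [← hd, h2] at h1
    apply Nat.eq_of_mul_eq_mul_left hd0
    rw [h1]
    unfold idxT
    ring
  have hn0 : idxT q ≠ 0 := by
    intro h
    rw [h, mul_zero] at hcard
    exact Nat.card_pos.ne' hcard
  obtain ⟨C, hC3, hC⟩ := three_even (X := ↥(twistedE6 K q)) (F := K)
    (fun p hp hc h => Cfsg.Agent.H868.KTwE6.ords_odd hq hF' p h) (fun h => Cfsg.Agent.H868.KTwE6.ords_two hq hF' h)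
  have h7 : 7 ≤ (idxT q).primeFactors.card := by
    have hm : q * (q ^ 2 - 1) ∣ idxT q := by
      refine Nat.mul_dvd_mul (dvd_pow_self q (by norm_num)) ?_
      simp only [mul_assoc]
      exact dvd_mul_right _ _
    refine card_primes hq2 hn0 hm {3, 4, 8, 10, 12} (by decide) (by simp) ?_
    have key : ∀ e r k, e ∣ k → q ^ k - 1 ∣ idxT q → Prim q e r → r ∣ idxT q :=
      fun e r k hek hdv hr => (hr.dvd hek).trans hdv
    have d5 : q ^ 5 + 1 ∣ idxT q := ⟨q ^ 36 * ((q ^ 2 - 1) * (q ^ 6 - 1) * (q ^ 8 - 1) * (q ^ 12 - 1) * (q ^ 3 + 1)),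
      by unfold idxT; ring⟩
    have d8 : q ^ 8 - 1 ∣ idxT q := ⟨q ^ 36 * ((q ^ 2 - 1) * (q ^ 5 + 1) * (q ^ 6 - 1) * (q ^ 12 - 1) * (q ^ 3 + 1)),
      by unfold idxT; ring⟩
    have d12 : q ^ 12 - 1 ∣ idxT q := ⟨q ^ 36 * ((q ^ 2 - 1) * (q ^ 5 + 1) * (q ^ 6 - 1) * (q ^ 8 - 1) * (q ^ 3 + 1)),
      by unfold idxT; ring⟩
    simp only [Finset.mem_insert, Finset.mem_singleton, forall_eq_or_imp, forall_eq]
    exact ⟨fun r => key 3 r 12 (by norm_num) d12, fun r => key 4 r 12 (by norm_num) d12,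
      fun r => key 8 r 8 (by norm_num) d8,
      fun r hr => (hr.dvd_add (by norm_num) (by norm_num)).trans d5,
      fun r => key 12 r 12 (by norm_num) d12⟩
  exact two_of_tor hE ha46 hodd hcard (idxT_mod (by omega) ⟨d, by rw [ha, mul_comm]⟩ hN) C hC (by omega)


/-- **The row `²E₆`.** -/
theorem rowT_te6 {K : Type} [Field K] [Fintype K] {q : ℕ} (hq : IsPrimePow q) (hK : Fintype.card K = q ^ 2) :
    RowT ↥(twistedE6 K q) := ⟨Or.inl (two_te6 hq hK), row2_te6 hq hK⟩

end Cfsg.Agent.H934.Two.RowTE6
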