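import Cfsg.Agent.H934.Two.TorDZ
import Cfsg.Agent.H934.Two.Sing
import Cfsg.Agent.H934.Two.RowE6
import Cfsg.Agent.H129.RealE7
import Cfsg.Agent.H224.ZerosE7
import Cfsg.Agent.S1064

/-!
# The row `E₇(q)` of S4897
-/

set_option autoImplicit false

namespace Cfsg.Agent.H934.Two.RowE7

open Cfsg Cfsg.Lie Cfsg.Agent.H92.KTools Cfsg.Agent.H129 Cfsg.Agent.H129.CycT
  Cfsg.Agent.H504.Zeros Cfsg.Agent.H504.ZeroTI Cfsg.Agent.H504.TwoZ
  Cfsg.Agent.H934.Two.RowE6 Cfsg.Agent.H129.WData Cfsg.Agent.H129.RealT Cfsg.Agent.H934.Two.RootDZ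

universe u

theorem lieType {F : Type} [Field F] [Fintype F] (p : ℕ) [hpc : CharP F p] : IsLieTypeChar p ↥(chevE7.group F) := by
  refine Or.inr (Or.inr (Or.inr (Or.inr (Or.inr (Or.inr (Or.inl ⟨F, inferInstance, inferInstance, hpc, ?_⟩))))))
  exact Or.inr (Or.inr (Or.inr (Or.inl ⟨MulEquiv.refl _⟩)))

/-- `Row2` for `E₇(q)` -/
theorem row2_e7 {F : Type} [Field F] [Fintype F] : Row2 ↥(chevE7.group F) := by
  obtain ⟨p, hpc⟩ := CharP.exists F
  have hpr : p.Prime := CharP.char_is_prime F p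
  have : Fact p.Prime := ⟨hpr⟩
  obtain ⟨hs, hna⟩ := S1054.result (F := F) chevE7 (by simp)
  obtain ⟨a, b, c, ha, hb, hc, hab, hac, hbc, Ha, Hb, Hc⟩ := three_p (X := ↥(chevE7.group F)) (F := F) (p := p)
    (fun h => Cfsg.Agent.H224.ZerosE7.e7_odd (F := F) p h) (fun h => Cfsg.Agent.H224.ZerosE7.e7_two h)
  exact row2_of_three hpr hna (lieType p) ha hb hc hab hac hbc Ha Hb Hc

theorem torus {F : Type} [Field F] [Fintype F] {q : ℕ} (hq : Fintype.card F = q) {N : ℕ}
    (hN : (N : ℤ) = 1 + (q : ℤ) ^ 3 + (q : ℤ) ^ 6) {r : ℕ} (hr : r.Prime) (hrN : r ∣ N) (hr3 : r ≠ 3) (hr2 : r ≠ 2) :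
    ∃ T : Subgroup ↥(chevE7.group F), IsCyclic ↥T ∧ Nat.card ↥T ∣ (q - 1) * N ∧ (q - 1) * N ∣ 2 * Nat.card ↥T ∧
      r ∣ Nat.card ↥T ∧ ∀ y ∈ T, orderOf y = r → Subgroup.centralizer {y} ≤ T := by
  have := finite_W7
  have hq2 : 2 ≤ q := by rw [← hq]; exact Fintype.one_lt_card
  obtain ⟨h1, h2⟩ := fN_9 hq2 hN
  obtain ⟨T, h3, h4, h5, h6, -⟩ := UntwT.untw_T typeE7 CoxeterMatrix.E₇.toCoxeterSystem (by norm_num) hq
    TorusChar.invC_E7 (by norm_num) DataE7n.hA DataE7n.chainOK DataE7n.cycOK DataE7n.rootOK h1 h2 (d := 2) (Or.inl rfl)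
  obtain ⟨g1, g2⟩ := good_E7_9 hN hr hrN hr3
  refine ⟨T, h3, h4, h5, ?_, h6 r hr g1 g2⟩
  have h7 : r ∣ 2 * Nat.card ↥T := (hrN.mul_left _).trans h5
  exact ((Nat.Prime.dvd_mul hr).1 h7).resolve_left fun h =>
    hr2 ((Nat.prime_dvd_prime_iff_eq hr Nat.prime_two).1 h)

/-- a CC-subgroup of order `a` prime with automizer `18` -/
theorem three_of_exact {G : Type u} [Group G] [Finite G] {a : ℕ} (ha : a.Prime) (h : CycExact G a) (hea : 18 < a)
    {N : ℤ} (hN : (Nat.card G : ℤ) = a * N) (hmod : ((N : ℤ) : ZMod a) = (18 : ℕ))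
    (hm : ∀ m, a = 18 * m + 1 → 3 ≤ m) : ∃ s : Finset G, NonConj s ∧ 3 ≤ s.card ∧ ∀ g ∈ s, a ∣ orderOf g := by
  obtain ⟨T, hT, hc, hz⟩ := h
  have hA := cc_of_cyclic hT hz
  have he := eIdx_of_int hA hc hea ha.one_lt hN hmod
  obtain ⟨m, hem⟩ := exists_m hA
  obtain ⟨s, hs, hsm, hsA⟩ := exists_reps hA hem
  rw [hc, he] at hem
  refine ⟨s, hs, by rw [hsm]; exact hm m hem, fun g hg => ?_⟩
  have h5 : orderOf g ∣ a := by
    have := orderOf_dvd_natCard (⟨g, (hsA g hg).1⟩ : T)
    rwa [← Subgroup.orderOf_coe, hc] at this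
  rcases (Nat.dvd_prime ha).1 h5 with h | h
  · exact absurd (orderOf_eq_one_iff.1 h) (hsA g hg).2
  · rw [h]

theorem two_e7 {F : Type} [Field F] [Fintype F] : Two ↥(chevE7.group F) := by
  obtain ⟨p, hpc⟩ := CharP.exists F
  have hpr : p.Prime := CharP.char_is_prime F p
  have hpf : Fact p.Prime := ⟨hpr⟩
  obtain ⟨hs, hna⟩ := S1054.result (F := F) chevE7 (by simp)
  obtain ⟨a, b, c, ha, hb, hc, hab, hac, hbc, Ha, Hb, Hc⟩ := three_p (X := ↥(chevE7.group F)) (F := F) (p := p)
    (fun h => Cfsg.Agent.H224.ZerosE7.e7_odd (F := F) p h) (fun h => Cfsg.Agent.H224.ZerosE7.e7_two h)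
  obtain ⟨s, hs1, hs3, hps⟩ := exists_three_orders ha hb hc hab hac hbc Ha Hb Hc
  obtain ⟨q, hq⟩ : ∃ q, Fintype.card F = q := ⟨_, rfl⟩
  have hq2 : 2 ≤ q := by rw [← hq]; exact Fintype.one_lt_card
  have hpq : p ∣ q := by
    rw [← CharP.cast_eq_zero_iff F p, ← hq]
    exact FiniteField.cast_card_eq_zero F
  obtain ⟨r, hr, hrN, -, hr2, hr3, -, -⟩ := exists_prime9 hq2
  have hrf : Fact r.Prime := ⟨hr⟩
  set N := q ^ 6 + q ^ 3 + 1 with hNdef
  have hN : (N : ℤ) = 1 + (q : ℤ) ^ 3 + (q : ℤ) ^ 6 := by rw [hNdef]; push_cast; ring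
  obtain ⟨T, hT, hT1, hT2, hrT, hcent⟩ := torus hq hN hr hrN hr3 hr2
  have hz : (q : ZMod r) ^ 6 + (q : ZMod r) ^ 3 + 1 = 0 := by
    have h2 := (ZMod.natCast_eq_zero_iff N r).2 hrN
    rw [hNdef] at h2
    push_cast at h2
    exact h2
  have h0 : ¬ r ∣ q := by
    intro h
    rw [(ZMod.natCast_eq_zero_iff q r).2 h] at hz
    norm_num at hz
  have h1 : ¬ r ∣ q - 1 := by
    intro h
    have h7 := (ZMod.natCast_eq_zero_iff (q - 1) r).2 h
    rw [Nat.cast_sub (by omega), Nat.cast_one, sub_eq_zero] at h7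
    rw [h7] at hz
    have h8 : ((3 : ℕ) : ZMod r) = 0 := by push_cast; linear_combination hz
    exact hr3 ((Nat.prime_dvd_prime_iff_eq hr Nat.prime_three).1 ((ZMod.natCast_eq_zero_iff 3 r).1 h8))
  have h2 : ¬ r ∣ q + 1 := by
    intro h
    have h7 := (ZMod.natCast_eq_zero_iff (q + 1) r).2 h
    push_cast at h7
    rw [eq_neg_of_add_eq_zero_left h7] at hz
    norm_num at hz
  have hpT : ¬ p ∣ Nat.card T := by
    intro h
    have h3 := (fN_9 hq2 hN).2
    have h4 : p ∣ Nat.gcd q ((q - 1) * N) := Nat.dvd_gcd hpq (h.trans hT1)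
    rw [h3] at h4
    exact hpr.one_lt.ne' (Nat.dvd_one.1 h4)
  have hdz := hasDZ_of_torus (D := chevE7) (by simp) p hq hT hrT hcent hpT hr2 h0 h1 h2
  have hrp : r ≠ p := by
    rintro rfl
    exact h0 hpq
  have hrG : r ∣ Nat.card ↥(chevE7.group F) := hrT.trans (Subgroup.card_subgroup_dvd_card T)
  have hN1 : r ≤ N := Nat.le_of_dvd (by omega) hrN
  obtain ⟨t, ht, ht3, hrt⟩ : ∃ s : Finset ↥(chevE7.group F), NonConj s ∧ 3 ≤ s.card ∧ ∀ g ∈ s, r ∣ orderOf g := by
    rcases Nat.lt_or_ge q 4 with hq4 | hq4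
    · -- `q = 2, 3`
      have hE := exact_E7_9 hq (by omega) hN
      have hc := Cfsg.Agent.S1064.result (F := F) hq
      have hq23 : q = 2 ∨ q = 3 := by omega
      clear_value N
      rcases hq23 with rfl | rfl
      · have hN' : N = 73 := by omega
        subst hN'
        have hr73 : r = 73 := (Nat.prime_dvd_prime_iff_eq hr (by norm_num)).1 hrN
        subst hr73
        have hval : Nat.card ↥(chevE7.group F) = 7997476042075799759100487262680802918400 := by
          have e : Nat.gcd 2 (2 - 1) = 1 := by decide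
          rw [e, one_mul] at hc
          rw [hc]; norm_num
        exact three_of_exact (by norm_num) hE (by norm_num) (N := 109554466329805476152061469351791820800) (by rw [hval]; norm_num)
          (by decide +kernel) (fun m hm => by omega)
      · have hN' : N = 757 := by omega
        subst hN'
        have hr757 : r = 757 := (Nat.prime_dvd_prime_iff_eq hr (by norm_num)).1 hrN
        subst hr757
        have hval : Nat.card ↥(chevE7.group F) = 1271375236818136742240479751139021644554379203770766254617395200 := by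
          have e : Nat.gcd 2 (3 - 1) = 2 := by decide
          rw [e] at hc
          have h3 : 2 * Nat.card ↥(chevE7.group F) = 2 * 1271375236818136742240479751139021644554379203770766254617395200 := by rw [hc]; norm_num
          exact Nat.eq_of_mul_eq_mul_left (by norm_num) h3
        exact three_of_exact (by norm_num) hE (by norm_num) (N := 1679491726311937572312390688426712872594952713039321340313600) (by rw [hval]; norm_num)
          (by decide +kernel) (fun m hm => by omega)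
    · refine exists_three_sing hT hr hrT hcent ?_
      clear_value N
      have hTpos : 0 < Nat.card T := Nat.card_pos
      by_cases hodd : (q - 1) % 2 = 1
      · have hcop : Nat.Coprime ((q - 1) * N) 2 := by
          rw [Nat.coprime_two_right]
          refine Odd.mul (Nat.odd_iff.2 hodd) ?_
          have h5 : Even q := by rw [Nat.even_iff]; omega
          rw [hNdef]
          exact ((h5.pow_of_ne_zero (by norm_num)).add (h5.pow_of_ne_zero (by norm_num))).add_one
        have h6 := Nat.le_of_dvd hTpos (hcop.dvd_of_dvd_mul_left hT2)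
        have h7 : 3 * N ≤ (q - 1) * N := Nat.mul_le_mul_right _ (by omega)
        omega
      · have h6 := Nat.le_of_dvd (by omega) hT2
        rcases Nat.lt_or_ge q 7 with h7 | h7
        · have hq5 : q = 5 := by omega
          subst hq5
          have hN' : N = 19 * 829 := by rw [hNdef]; norm_num
          have h8 : r ≤ 829 := by
            rw [hN'] at hrN
            rcases (Nat.Prime.dvd_mul hr).1 hrN with h | h
            · exact (Nat.le_of_dvd (by norm_num) h).trans (by norm_num)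
            · exact Nat.le_of_dvd (by norm_num) h
          rw [hN'] at h6
          omega
        · have h8 : 6 * N ≤ (q - 1) * N := Nat.mul_le_mul_right _ (by omega)
          omega
  exact two_of_st_dz hrp (Cfsg.Agent.H167.StChar.hasSt_of_lie hpr (lieType p)) hdz hrG s t hs1 ht hps hrt hs3 ht3

/-- **The row `E₇`.** -/
theorem rowT_e7 {F : Type} [Field F] [Fintype F] : RowT ↥(chevE7.group F) := ⟨Or.inl two_e7, row2_e7⟩

end Cfsg.Agent.H934.Two.RowE7
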